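import Mathlib
import Cfsg.Agent.H39.FieldOrders

/-!
The dihedral normalisers of tori are maximal subgroups of `PSL₂(q)` (small exceptions aside).
-/

set_option autoImplicit false
set_option maxHeartbeats 800000

namespace H39

open Matrix
open scoped MatrixGroups

section generic

theorem perm4_orders (σ : Equiv.Perm (Fin 4)) : σ ^ 3 = 1 ∨ σ ^ 4 = 1 := by
  revert σ; decide +kernel

theorem alt4_orders (σ : alternatingGroup (Fin 4)) : σ ^ 2 = 1 ∨ σ ^ 3 = 1 := by
  revert σ; decide +kernel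

theorem alt5_orders (σ : alternatingGroup (Fin 5)) : σ ^ 2 = 1 ∨ σ ^ 3 = 1 ∨ σ ^ 5 = 1 := by
  revert σ; decide +kernel

theorem alt4_no_inverting : ∀ a b : alternatingGroup (Fin 4),
    b * b = 1 → b * a * b⁻¹ = a⁻¹ → a * a = 1 ∨ b = 1 := by
  decide +kernel

end generic

variable {F : Type*} [Field F] [Fintype F] (p : ℕ) [Fact p.Prime] [CharP F p]

local notation "G2" => Matrix.ProjectiveSpecialLinearGroup (Fin 2) F
local notation "qq" => Fintype.card F
local notation "dq" => Nat.gcd 2 (Fintype.card F - 1)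
local notation "Mp" => (Fintype.card F + 1) / Nat.gcd 2 (Fintype.card F - 1)
local notation "Mm" => (Fintype.card F - 1) / Nat.gcd 2 (Fintype.card F - 1)

include p

theorem coprime_q {k : ℕ} (hk : k ∣ Mp ∨ k ∣ Mm) : Nat.Coprime k qq := by
  obtain ⟨n, hp, hn⟩ := FiniteField.card F p
  rw [hn]
  refine Nat.Coprime.pow_right _ ?_
  rw [Nat.coprime_comm, hp.coprime_iff_not_dvd]
  intro hd
  have hpq : p ∣ qq := hn ▸ dvd_pow_self p n.ne_zero
  have hq := Fintype.one_lt_card (α := F)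
  rcases hk with hk | hk
  · have h1 : p ∣ qq + 1 := (hd.trans hk).trans (Nat.div_dvd_of_dvd gcd_dvd_add_one)
    rw [Nat.dvd_add_right hpq] at h1
    exact hp.not_dvd_one h1
  · have h1 : p ∣ qq - 1 := (hd.trans hk).trans (Nat.div_dvd_of_dvd (Nat.gcd_dvd_right _ _))
    have h2 : p ∣ qq - 1 + 1 := by rwa [Nat.sub_add_cancel hq.le]
    rw [Nat.dvd_add_right h1] at h2
    exact hp.not_dvd_one h2

omit p [Fact p.Prime] [CharP F p] in
/-- The standing data inside a subgroup containing a dihedral torus normaliser. -/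
theorem gen_of_normalizer {q : ℕ} [Fact q.Prime] [CharP F q] {y : G2} (hy : y ^ q ≠ 1) :
    ∃ c ∈ Subgroup.normalizer (tor y : Set G2), ∃ s ∈ Subgroup.normalizer (tor y : Set G2),
      orderOf c = Nat.card (tor y) ∧ s * s = 1 ∧ s ≠ 1 ∧ s * c * s⁻¹ = c⁻¹ := by
  haveI := tor_isCyclic q hy
  obtain ⟨⟨c, hcT⟩, hcg⟩ := IsCyclic.exists_generator (α := tor y)
  obtain ⟨s, hs, hsT⟩ := exists_outside q hy
  obtain ⟨h2, h1, hinv⟩ := normalizer_outside q hy hs hsT
  refine ⟨c, Subgroup.le_normalizer hcT, s, hs, ?_, by rw [← sq]; exact h2, h1, hinv c hcT⟩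
  rw [← orderOf_eq_card_of_forall_mem_zpowers hcg]
  exact Subgroup.orderOf_coe ⟨c, hcT⟩

theorem borel_no_inverting {P : GL (Fin 2) F} {c s : G2} (hc : cjP P c ∈ borelP)
    (hs : cjP P s ∈ borelP) (hcp : Nat.Coprime (orderOf c) p) (h : s * c * s⁻¹ = c⁻¹) :
    orderOf c ∣ 2 := by
  set C : ↥(borelP : Subgroup G2) := ⟨cjP P c, hc⟩
  set S : ↥(borelP : Subgroup G2) := ⟨cjP P s, hs⟩
  have hCS : S * C * S⁻¹ = C⁻¹ := Subtype.ext (by
    show cjP P s * cjP P c * (cjP P s)⁻¹ = (cjP P c)⁻¹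
    rw [← map_inv, ← map_mul, ← map_mul, h, map_inv])
  have h1 := congrArg (multHom (F := F)) hCS
  rw [map_mul, map_mul, map_inv, map_inv, mul_comm (multHom S), mul_inv_cancel_right] at h1
  have h2 : multHom (C ^ 2) = 1 := by rw [map_pow, sq]; nth_rw 2 [h1]; rw [mul_inv_cancel]
  have h3 := eq_transl_of_mult_one (C ^ 2).2 (congrArg Units.val h2)
  have h4 : (cjP P c) ^ (2 * p) = 1 := by
    rw [pow_mul, show (cjP P c) ^ 2 = ((C ^ 2 : ↥(borelP : Subgroup G2)) : G2) from rfl, h3,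
      transl, ← map_pow, pow_char_eq_one_of_tr_eq_two p _ (by simp [tr_def]; norm_num), map_one]
  have h5 : orderOf c ∣ 2 * p := by
    rw [← MulEquiv.orderOf_eq (cjP P) c]; exact orderOf_dvd_of_pow_eq_one h4
  exact hcp.dvd_of_dvd_mul_right h5

omit [CharP F p] in
theorem cjP_mem_of_le {H : Subgroup G2} {P : GL (Fin 2) F} {B : Subgroup G2}
    (h : H.map (cjP P).toMonoidHom ≤ B) {x : G2} (hx : x ∈ H) : cjP P x ∈ B := h ⟨x, hx, rfl⟩

theorem field_bound {H : Subgroup G2} {P : GL (Fin 2) F} {K : Subfield F}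
    (h : H.map (cjP P).toMonoidHom ≤ projField K) (hK : Nat.card K ≠ qq) {c : G2} (hc : c ∈ H)
    (hcp : c ^ p ≠ 1) :
    orderOf c ≤ Nat.card K + 1 ∧ 2 ≤ Nat.card K ∧ Nat.card K ^ 2 ≤ qq ∧
      (qq % 2 = 1 → 3 ≤ Nat.card K) := by
  obtain ⟨hr, hr2⟩ := subfield_sq_le hK
  have hx : cjP P c ^ p ≠ 1 := by
    rw [← map_pow]
    exact fun e => hcp ((cjP P).injective (e.trans (map_one _).symm))
  have hd := orderOf_dvd_of_mem_projField p (cjP_mem_of_le p h hc) hx
  rw [MulEquiv.orderOf_eq] at hd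
  refine ⟨?_, hr, hr2, fun hodd => ?_⟩
  · rcases hd with hd | hd
    · have := Nat.le_of_dvd (by omega) hd; omega
    · exact Nat.le_of_dvd (by omega) hd
  · obtain ⟨m, hm0, hm⟩ := H42.subfield_card_pow K
    by_contra hc3
    rw [show Nat.card K = 2 by omega] at hm
    rw [hm, Nat.pow_mod, Nat.mod_self, zero_pow hm0.ne'] at hodd
    omega

theorem maxDihedral_plus (hq : qq ∉ ({2, 7, 9} : Finset ℕ)) :
    ∃ H : Subgroup G2, IsCoatom H ∧ Nonempty (H ≃* DihedralGroup Mp) := by
  simp only [Finset.mem_insert, Finset.mem_singleton, not_or] at hq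
  obtain ⟨hq2, hq7, hq9⟩ := hq
  obtain ⟨hh, hM, hd, h6, h10, h12⟩ := card_facts p (F := F)
  obtain ⟨y, hy, hcy⟩ := exists_tor_plus p (F := F)
  have hN2 := (tor_trichotomy p hy).2.1
  rw [hcy] at hN2
  have hq1 := Fintype.one_lt_card (α := F)
  have hM2 : 2 ≤ Mp := by rcases hd with ⟨e, -⟩ | ⟨e, -⟩ <;> rw [e] at hM ⊢ <;> omega
  have hcop := coprime_halves qq (by omega)
  have hd0 : 0 < dq := Nat.gcd_pos_of_pos_left _ two_pos
  set N := Subgroup.normalizer (tor y : Set G2)
  have hG := card_G2_eq (F := F)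
  refine ⟨N, ⟨?_, ?_⟩, hcy ▸ normalizer_tor_dihedral p hy⟩
  · intro htop
    rw [htop, Subgroup.card_top, hG] at hN2
    have h1 : 0 < Mm := by rcases hd with ⟨e, -⟩ | ⟨e, -⟩ <;> rw [e] at hh ⊢ <;> omega
    have h3 : 3 * (qq + 1) ≤ qq * Mm * (qq + 1) :=
      Nat.mul_le_mul_right _ (le_trans (by omega) (Nat.le_mul_of_pos_right _ h1))
    rcases hd with ⟨e, -⟩ | ⟨e, -⟩ <;> rw [e] at hM hN2 h3 <;> omega
  intro H hlt
  by_contra hH
  have hle := hlt.le
  obtain ⟨c, hcN, s, hsN, hc, hs2, hs1, hsc⟩ := gen_of_normalizer (q := p) hy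
  rw [hcy] at hc
  have hcH := hle hcN
  have hsH := hle hsN
  have hdvd : 2 * Mp ∣ Nat.card H := hN2 ▸ Subgroup.card_dvd_of_le hle
  have hbig : 2 * Mp < Nat.card H := by
    rw [← hN2]
    refine lt_of_le_of_ne (Subgroup.card_le_of_le hle) fun e => hlt.ne ?_
    exact Subgroup.eq_of_le_of_card_ge hle e.ge
  have hGd := H.card_subgroup_dvd_card
  cases dickson p H with
  | cyclic hcy' hk =>
    rcases hk with hk | hk
    · have := Nat.le_of_dvd (by omega) hk
      omega
    · have := Nat.eq_one_of_dvd_coprimes hcop (((dvd_mul_left Mp 2).trans hdvd).trans hk) dvd_rfl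
      omega
  | dihedral k e hk =>
    obtain ⟨e⟩ := e
    rw [Nat.card_congr e.toEquiv, DihedralGroup.nat_card] at hdvd hbig
    have hMk := Nat.dvd_of_mul_dvd_mul_left two_pos hdvd
    rcases hk with hk | hk
    · have := Nat.le_of_dvd (by omega) hk
      omega
    · have := Nat.eq_one_of_dvd_coprimes hcop (hMk.trans hk) dvd_rfl
      omega
  | borel P hle' hz =>
    have h1 : Mp ∣ qq * Mm := by
      rw [← hc, ← card_borelP, ← MulEquiv.orderOf_eq (cjP P) c]
      exact Subgroup.orderOf_dvd_natCard _ (cjP_mem_of_le p hle' hcH)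
    have h2 := (coprime_q p (Or.inl dvd_rfl)).dvd_of_dvd_mul_left h1
    have := Nat.eq_one_of_dvd_coprimes hcop h2 dvd_rfl
    omega
  | a4 e =>
    obtain ⟨e⟩ := e
    have hH12 : Nat.card H = 12 := by
      rw [Nat.card_congr e.toEquiv, nat_card_alternatingGroup, Nat.card_fin]; decide
    have ho : orderOf (e ⟨c, hcH⟩) = Mp := by rw [MulEquiv.orderOf_eq, Subgroup.orderOf_mk, hc]
    have hM3 : Mp = 2 ∨ Mp = 3 := by
      rcases alt4_orders (e ⟨c, hcH⟩) with h | h <;> have := Nat.le_of_dvd (by norm_num)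
        (ho ▸ orderOf_dvd_of_pow_eq_one h)
      · omega
      · have h3 := (Nat.dvd_prime Nat.prime_three).1 (ho ▸ orderOf_dvd_of_pow_eq_one h)
        omega
    rcases hM3 with h3 | h3
    · -- the whole group has order twelve
      apply hH
      refine Subgroup.eq_top_of_card_eq _ ?_
      rw [hH12, hG]
      rcases hd with ⟨ed, -⟩ | ⟨ed, -⟩ <;> rw [ed] at hh hM h3 ⊢
      · omega
      · rw [h3] at hM
        have hq3 : qq = 3 := by omega
        rw [hq3]
    · rcases alt4_no_inverting (e ⟨c, hcH⟩) (e ⟨s, hsH⟩)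
        (by rw [← map_mul, ← map_one e]; exact congrArg e (Subtype.ext hs2))
        (by rw [← map_inv, ← map_mul, ← map_mul, ← map_inv]; exact congrArg e (Subtype.ext hsc)) with h | h
      · have h2 := ho ▸ orderOf_dvd_of_pow_eq_one (show (e ⟨c, hcH⟩) ^ 2 = 1 by rw [sq]; exact h)
        rw [h3] at h2
        norm_num at h2
      · exact hs1 (congrArg Subtype.val (e.injective (h.trans (map_one e).symm)))
  | s4 e =>
    obtain ⟨e⟩ := e
    have hH24 : Nat.card H = 24 := by rw [Nat.card_congr e.toEquiv, Nat.card_perm, Nat.card_fin]; decide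
    have ho : orderOf (e ⟨c, hcH⟩) = Mp := by rw [MulEquiv.orderOf_eq, Subgroup.orderOf_mk, hc]
    have hM4 : Mp ≤ 4 := by
      rcases perm4_orders (e ⟨c, hcH⟩) with h | h <;>
        have := Nat.le_of_dvd (by norm_num) (ho ▸ orderOf_dvd_of_pow_eq_one h) <;> omega
    rw [hG, hH24] at hGd
    rcases hd with ⟨ed, hpar⟩ | ⟨ed, hpar⟩ <;> rw [ed] at hh hM hM4 hGd <;>
      rcases (show qq = 3 ∨ qq = 5 by omega) with h35 | h35 <;>
      first
      | omega
      | (rw [h35] at hGd; norm_num at hGd)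
  | a5 e =>
    obtain ⟨e⟩ := e
    have hH60 : Nat.card H = 60 := by
      rw [Nat.card_congr e.toEquiv, nat_card_alternatingGroup, Nat.card_fin]; decide
    have ho : orderOf (e ⟨c, hcH⟩) = Mp := by rw [MulEquiv.orderOf_eq, Subgroup.orderOf_mk, hc]
    have hM5 : Mp ≤ 5 := by
      rcases alt5_orders (e ⟨c, hcH⟩) with h | h | h <;>
        have := Nat.le_of_dvd (by norm_num) (ho ▸ orderOf_dvd_of_pow_eq_one h) <;> omega
    rw [hG, hH60] at hGd
    have h345 : qq = 3 ∨ qq = 4 ∨ qq = 5 := by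
      rcases hd with ⟨ed, hpar⟩ | ⟨ed, hpar⟩ <;> rw [ed] at hh hM hM5 <;> omega
    rcases h345 with h35 | h35 | h35
    · rw [h35] at hGd; norm_num at hGd
    · exact hH (Subgroup.eq_top_of_card_eq _ (by rw [hH60, hG, h35]; norm_num))
    · exact hH (Subgroup.eq_top_of_card_eq _ (by rw [hH60, hG, h35]; norm_num))
  | field P K hle' he =>
    have hK : Nat.card K ≠ qq := fun e => hH ((card_le_field K he).2 e)
    obtain ⟨hb, hr, hr2, hr3⟩ := field_bound p hle' hK hcH (fun e => by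
      have := Nat.eq_one_of_dvd_coprimes (coprime_q p (k := orderOf c) (Or.inl (dvd_of_eq hc))) dvd_rfl
        (show orderOf c ∣ qq by
          obtain ⟨n, -, hn⟩ := FiniteField.card F p
          exact hn ▸ (orderOf_dvd_of_pow_eq_one e).trans (dvd_pow_self p n.ne_zero))
      omega)
    rw [hc] at hb
    set r := Nat.card K
    rcases hd with ⟨ed, hpar⟩ | ⟨ed, hpar⟩ <;> rw [ed] at hM hb
    · nlinarith
    · have := hr3 hpar
      nlinarith

theorem maxDihedral_minus (hq : qq ∉ ({2, 3, 5, 7, 9, 11} : Finset ℕ)) :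
    ∃ H : Subgroup G2, IsCoatom H ∧ Nonempty (H ≃* DihedralGroup Mm) := by
  simp only [Finset.mem_insert, Finset.mem_singleton, not_or] at hq
  obtain ⟨hq2, hq3, hq5, hq7, hq9, hq11⟩ := hq
  obtain ⟨hh, hM, hd, h6, h10, h12⟩ := card_facts p (F := F)
  have hq1 := Fintype.one_lt_card (α := F)
  have hh3 : 3 ≤ Mm := by rcases hd with ⟨e, -⟩ | ⟨e, -⟩ <;> rw [e] at hh ⊢ <;> omega
  obtain ⟨y, hy, hcy⟩ := exists_tor_minus p (F := F) (by omega)
  have hN2 := (tor_trichotomy p hy).2.1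
  rw [hcy] at hN2
  have hcop := coprime_halves qq (by omega)
  set N := Subgroup.normalizer (tor y : Set G2)
  have hG := card_G2_eq (F := F)
  refine ⟨N, ⟨?_, ?_⟩, hcy ▸ normalizer_tor_dihedral p hy⟩
  · intro htop
    rw [htop, Subgroup.card_top, hG, mul_comm qq, mul_assoc, mul_comm 2] at hN2
    have := Nat.eq_of_mul_eq_mul_left (by omega) hN2
    nlinarith
  intro H hlt
  by_contra hH
  have hle := hlt.le
  obtain ⟨c, hcN, s, hsN, hc, hs2, hs1, hsc⟩ := gen_of_normalizer (q := p) hy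
  rw [hcy] at hc
  have hcH := hle hcN
  have hsH := hle hsN
  have hdvd : 2 * Mm ∣ Nat.card H := hN2 ▸ Subgroup.card_dvd_of_le hle
  have hbig : 2 * Mm < Nat.card H := by
    rw [← hN2]
    refine lt_of_le_of_ne (Subgroup.card_le_of_le hle) fun e => hlt.ne ?_
    exact Subgroup.eq_of_le_of_card_ge hle e.ge
  have hGd := H.card_subgroup_dvd_card
  have hMp0 : 0 < Mp := by rcases hd with ⟨e, -⟩ | ⟨e, -⟩ <;> rw [e] at hM ⊢ <;> omega
  cases dickson p H with
  | cyclic hcy' hk =>
    rcases hk with hk | hk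
    · have := Nat.eq_one_of_dvd_coprimes hcop dvd_rfl (((dvd_mul_left Mm 2).trans hdvd).trans hk)
      omega
    · have := Nat.le_of_dvd (by omega) hk
      omega
  | dihedral k e hk =>
    obtain ⟨e⟩ := e
    rw [Nat.card_congr e.toEquiv, DihedralGroup.nat_card] at hdvd hbig
    have hMk := Nat.dvd_of_mul_dvd_mul_left two_pos hdvd
    rcases hk with hk | hk
    · have := Nat.eq_one_of_dvd_coprimes hcop dvd_rfl (hMk.trans hk)
      omega
    · have := Nat.le_of_dvd (by omega) hk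
      omega
  | borel P hle' hz =>
    have hcp : Nat.Coprime (orderOf c) p := by
      have h := coprime_q p (k := orderOf c) (Or.inr (dvd_of_eq hc))
      obtain ⟨n, -, hn⟩ := FiniteField.card F p
      rw [hn] at h
      exact (Nat.coprime_pow_right_iff n.pos _ _).1 h
    have := Nat.le_of_dvd two_pos (borel_no_inverting p (cjP_mem_of_le p hle' hcH)
      (cjP_mem_of_le p hle' hsH) hcp hsc)
    omega
  | a4 e =>
    obtain ⟨e⟩ := e
    have ho : orderOf (e ⟨c, hcH⟩) = Mm := by rw [MulEquiv.orderOf_eq, Subgroup.orderOf_mk, hc]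
    rcases alt4_no_inverting (e ⟨c, hcH⟩) (e ⟨s, hsH⟩)
        (by rw [← map_mul, ← map_one e]; exact congrArg e (Subtype.ext hs2))
        (by rw [← map_inv, ← map_mul, ← map_mul, ← map_inv]; exact congrArg e (Subtype.ext hsc)) with h | h
    · have := Nat.le_of_dvd two_pos
        (ho ▸ orderOf_dvd_of_pow_eq_one (show (e ⟨c, hcH⟩) ^ 2 = 1 by rw [sq]; exact h))
      omega
    · exact hs1 (congrArg Subtype.val (e.injective (h.trans (map_one e).symm)))
  | s4 e =>
    obtain ⟨e⟩ := e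
    have hH24 : Nat.card H = 24 := by rw [Nat.card_congr e.toEquiv, Nat.card_perm, Nat.card_fin]; decide
    have ho : orderOf (e ⟨c, hcH⟩) = Mm := by rw [MulEquiv.orderOf_eq, Subgroup.orderOf_mk, hc]
    have hM4 : Mm ≤ 4 := by
      rcases perm4_orders (e ⟨c, hcH⟩) with h | h <;>
        have := Nat.le_of_dvd (by norm_num) (ho ▸ orderOf_dvd_of_pow_eq_one h) <;> omega
    rw [hG, hH24] at hGd
    have h4 : qq = 4 := by
      rcases hd with ⟨ed, hpar⟩ | ⟨ed, hpar⟩ <;> rw [ed] at hh hM4 <;> omega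
    rw [h4] at hGd; norm_num at hGd
  | a5 e =>
    obtain ⟨e⟩ := e
    have hH60 : Nat.card H = 60 := by
      rw [Nat.card_congr e.toEquiv, nat_card_alternatingGroup, Nat.card_fin]; decide
    have ho : orderOf (e ⟨c, hcH⟩) = Mm := by rw [MulEquiv.orderOf_eq, Subgroup.orderOf_mk, hc]
    have hM5 : Mm ≤ 5 := by
      rcases alt5_orders (e ⟨c, hcH⟩) with h | h | h <;>
        have := Nat.le_of_dvd (by norm_num) (ho ▸ orderOf_dvd_of_pow_eq_one h) <;> omega
    have h4 : qq = 4 := by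
      rcases hd with ⟨ed, hpar⟩ | ⟨ed, hpar⟩ <;> rw [ed] at hh hM5 <;> omega
    exact hH (Subgroup.eq_top_of_card_eq _ (by rw [hH60, hG, h4]; norm_num))
  | field P K hle' he =>
    obtain ⟨hcard, htop⟩ := card_le_field K he
    have hK : Nat.card K ≠ qq := fun e => hH (htop e)
    obtain ⟨hb, hr, hr2, hr3⟩ := field_bound p hle' hK hcH (fun e => by
      have := Nat.eq_one_of_dvd_coprimes (coprime_q p (k := orderOf c) (Or.inr (dvd_of_eq hc))) dvd_rfl
        (show orderOf c ∣ qq by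
          obtain ⟨n, -, hn⟩ := FiniteField.card F p
          exact hn ▸ (orderOf_dvd_of_pow_eq_one e).trans (dvd_pow_self p n.ne_zero))
      omega)
    rw [hc] at hb
    set r := Nat.card K
    rcases hd with ⟨ed, hpar⟩ | ⟨ed, hpar⟩ <;> rw [ed] at hh hb hbig
    · have hr4 : r ≤ 2 := by
        by_contra hc'
        have : 3 * r ≤ r ^ 2 := by rw [sq]; exact Nat.mul_le_mul_right r (by omega)
        omega
      rw [show r = 2 by omega] at hcard hb
      norm_num at hcard
      omega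
    · have := hr3 hpar
      have hr4 : r ≤ 3 := by
        by_contra hc'
        have : 4 * r ≤ r ^ 2 := by rw [sq]; exact Nat.mul_le_mul_right r (by omega)
        omega
      rw [show r = 3 by omega] at hr2 hb
      omega

end H39
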