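import Mathlib
import Cfsg.Prelude.Def_CaseTheorems
import Cfsg.Agent.H39.MaxDihedral

/-!
When is `PSL₂(q)` minimal simple?
-/

set_option autoImplicit false
set_option maxHeartbeats 800000

namespace H39

open Matrix
open scoped MatrixGroups

universe u

section generic

theorem solvable_of_equiv {G H : Type*} [Group G] [Group H] (e : G ≃* H) (h : Group.IsSolvable H) :
    Group.IsSolvable G :=
  haveI := h
  Group.isSolvable_of_isSolvable_injective (f := e.toMonoidHom) e.injective

theorem not_solvable_of_simple {G : Type*} [Group G] [Finite G] (hs : IsSimpleGroup G)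
    (hc : ¬ (Nat.card G).Prime) : ¬ Group.IsSolvable G := by
  intro h
  haveI := hs
  have hcomm := (IsSimpleGroup.comm_iff_isSolvable (G := G)).2 h
  letI : CommGroup G := { ‹Group G› with mul_comm := hcomm }
  exact hc IsSimpleGroup.prime_card

theorem dihedral_solvable (k : ℕ) : Group.IsSolvable (DihedralGroup k) := by
  let f : DihedralGroup k →* Multiplicative (ZMod 2) :=
    { toFun := fun x => Multiplicative.ofAdd (match x with | .r _ => 0 | .sr _ => 1)
      map_one' := rfl
      map_mul' := by
        rintro (i | i) (j | j) <;>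
          first
          | rfl
          | (show Multiplicative.ofAdd (0 : ZMod 2) = Multiplicative.ofAdd 1 * Multiplicative.ofAdd 1
             decide) }
  let g : Multiplicative (ZMod k) →* DihedralGroup k :=
    { toFun := fun i => DihedralGroup.r i.toAdd
      map_one' := rfl
      map_mul' := fun i j => (DihedralGroup.r_mul_r i.toAdd j.toAdd).symm }
  refine Group.isSolvable_of_ker_le_range g f ?_
  rintro (i | i) hx
  · exact ⟨Multiplicative.ofAdd i, rfl⟩
  · exact absurd (MonoidHom.mem_ker.1 hx)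
      (fun h => absurd (congrArg Multiplicative.toAdd h) (show ¬((1 : ZMod 2) = 0) by decide))

theorem alt5_not_solvable : ¬ Group.IsSolvable (alternatingGroup (Fin 5)) :=
  not_solvable_of_simple alternatingGroup.isSimpleGroup_five
    (by rw [nat_card_alternatingGroup, Nat.card_fin]; decide +kernel)

end generic

variable {F : Type u} [Field F] [Fintype F]

local notation "G2" => Matrix.ProjectiveSpecialLinearGroup (Fin 2) F
local notation "qq" => Fintype.card F

theorem card_G2_not_prime (hq : 4 ≤ qq) : ¬ (Nat.card G2).Prime := by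
  rw [card_G2_eq]
  refine Nat.not_prime_mul ?_ (by omega)
  have hd : Nat.gcd 2 (qq - 1) ≤ 2 := Nat.le_of_dvd two_pos (Nat.gcd_dvd_left _ _)
  have hd0 : 0 < Nat.gcd 2 (qq - 1) := Nat.gcd_pos_of_pos_left _ two_pos
  have h0 : 0 < (qq - 1) / Nat.gcd 2 (qq - 1) := Nat.div_pos (by omega) hd0
  have := Nat.le_mul_of_pos_right qq h0
  omega

theorem G2_simple (hq : 4 ≤ qq) : IsSimpleGroup G2 :=
  Matrix.ProjectiveSpecialLinearGroup.rank_two_simple (by rwa [Nat.card_eq_fintype_card])

theorem G2_not_solvable (hq : 4 ≤ qq) : ¬ Group.IsSolvable G2 :=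
  not_solvable_of_simple (G2_simple hq) (card_G2_not_prime hq)

theorem borelP_solvable : Group.IsSolvable ↥(borelP : Subgroup G2) := by
  haveI : Group.IsSolvable ↥(multHom (F := F)).ker := Group.isSolvable_of_comm fun a b => by
    apply Subtype.ext
    apply Subtype.ext
    have ha := eq_transl_of_mult_one a.1.2 (congrArg Units.val a.2)
    have hb := eq_transl_of_mult_one b.1.2 (congrArg Units.val b.2)
    show ((a.1 : G2)) * (b.1 : G2) = (b.1 : G2) * (a.1 : G2)
    rw [ha, hb, transl_mul, transl_mul, add_comm]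
  exact Group.isSolvable_of_ker_le_range (multHom (F := F)).ker.subtype (multHom (F := F))
    (fun x hx => ⟨⟨x, hx⟩, rfl⟩)

variable (p : ℕ) [Fact p.Prime] [CharP F p]

include p

theorem proper_solvable (h5 : ¬ 5 ∣ qq * (qq ^ 2 - 1) ∨ Nat.card G2 = 60)
    (hsub : ∀ K : Subfield F, Nat.card K = qq ∨ Nat.card K ≤ 3)
    {H : Subgroup G2} (hH : H ≠ ⊤) : Group.IsSolvable H := by
  cases dickson p H with
  | cyclic hc hk => exact Group.isSolvable_of_comm fun a b => mul_comm' a b
  | dihedral k e hk => exact solvable_of_equiv e.some (dihedral_solvable k)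
  | borel P hle hz =>
    haveI := borelP_solvable (F := F)
    exact Group.isSolvable_of_isSolvable_injective
      (f := ((cjP P).toMonoidHom.comp H.subtype).codRestrict borelP fun x => hle ⟨x, x.2, rfl⟩)
      (fun a b h => Subtype.ext ((cjP P).injective (congrArg Subtype.val h)))
  | a4 e =>
    refine solvable_of_equiv e.some (H59.solvable_of_card ?_ ?_) <;>
      rw [nat_card_alternatingGroup, Nat.card_fin] <;> decide
  | s4 e =>
    refine solvable_of_equiv e.some (H59.solvable_of_card ?_ ?_) <;>
      rw [Nat.card_perm, Nat.card_fin] <;> decide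
  | a5 e =>
    exfalso
    rcases h5 with h5 | h5
    · exact h5 ((exists_alt5_iff p).1 ⟨H, e⟩)
    · refine hH (Subgroup.eq_top_of_card_eq _ ?_)
      rw [h5, Nat.card_congr e.some.toEquiv, nat_card_alternatingGroup, Nat.card_fin]
      decide
  | field P K hle he =>
    obtain ⟨hcard, htop⟩ := card_le_field K he
    rcases hsub K with hK | hK
    · exact absurd (htop hK) hH
    haveI : Fintype K := Fintype.ofFinite K
    have h2 : 2 ≤ Fintype.card K := Fintype.one_lt_card
    rw [Nat.card_eq_fintype_card (α := K)] at hcard hK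
    have hd : Nat.card H ∣ 120 := by
      have : Nat.card H ∣ Fintype.card K * (Fintype.card K ^ 2 - 1) := by
        rcases he with ⟨⟨e⟩⟩ | ⟨⟨e⟩⟩
        · rw [Nat.card_congr e.toEquiv, card_PGL2]
        · rw [Nat.card_congr e.toEquiv]
          exact Dvd.intro_left _ (card_PSL2_mul (F := K))
      refine this.trans ?_
      interval_cases Fintype.card K <;> norm_num
    refine H59.solvable_of_card (lt_of_le_of_lt hcard ?_) hd
    interval_cases Fintype.card K <;> norm_num

omit [Fintype F] [Fact p.Prime] [CharP F p] in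
theorem two_pow_odd_mod_five (k : ℕ) : 2 ^ (2 * k + 1) % 5 = 2 ∨ 2 ^ (2 * k + 1) % 5 = 3 := by
  induction k with
  | zero => simp
  | succ k ih => rw [show 2 * (k + 1) + 1 = 2 * k + 1 + 2 by ring, pow_add]; omega

omit [Fintype F] [Fact p.Prime] [CharP F p] in
theorem three_pow_odd_mod_five (k : ℕ) : 3 ^ (2 * k + 1) % 5 = 2 ∨ 3 ^ (2 * k + 1) % 5 = 3 := by
  induction k with
  | zero => simp
  | succ k ih => rw [show 2 * (k + 1) + 1 = 2 * k + 1 + 2 by ring, pow_add]; omega

omit [Fintype F] [Fact p.Prime] [CharP F p] in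
theorem not_five_dvd_of_mod {q : ℕ} (h : q % 5 = 2 ∨ q % 5 = 3) : ¬ 5 ∣ q * (q ^ 2 - 1) := by
  intro hd
  rcases (Nat.Prime.dvd_mul (by norm_num)).1 hd with h1 | h1
  · omega
  · have h2 : q ^ 2 % 5 = 4 := by rw [Nat.pow_mod]; rcases h with e | e <;> rw [e]
    omega

omit [Fintype F] [Fact p.Prime] [CharP F p] in
theorem five_dvd_of_mod {q : ℕ} (h : ¬ (q % 5 = 2 ∨ q % 5 = 3)) : 5 ∣ q * (q ^ 2 - 1) := by
  have := Nat.mod_lt q (show 5 > 0 by norm_num)
  rcases (show q % 5 = 0 ∨ q % 5 = 1 ∨ q % 5 = 4 by omega) with e | e | e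
  · exact Dvd.dvd.mul_right (Nat.dvd_of_mod_eq_zero e) _
  · refine Dvd.dvd.mul_left ?_ _
    have h2 : q ^ 2 % 5 = 1 := by rw [Nat.pow_mod, e]
    omega
  · refine Dvd.dvd.mul_left ?_ _
    have h2 : q ^ 2 % 5 = 1 := by rw [Nat.pow_mod, e]
    omega

theorem minimalSimple_iff :
    Cfsg.IsMinimalSimple G2 ↔ ((∃ r : ℕ, r.Prime ∧ qq = 2 ^ r) ∨
      (∃ r : ℕ, r.Prime ∧ r ≠ 2 ∧ qq = 3 ^ r) ∨ (Nat.Prime qq ∧ 5 < qq ∧ (qq % 5 = 2 ∨ qq % 5 = 3)) ∨
      qq = 5) := by
  obtain ⟨⟨n, hn0⟩, hp, hn⟩ := FiniteField.card F p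
  simp only [PNat.mk_coe] at hn
  have hq1 := Fintype.one_lt_card (α := F)
  constructor
  · rintro ⟨hs, hnc, hsolv⟩
    have h4 : 4 ≤ qq := by
      by_contra hlt
      have hc : Nat.card G2 = 6 ∨ Nat.card G2 = 12 := by
        rw [card_G2_eq]
        rcases (show qq = 2 ∨ qq = 3 by omega) with e | e <;> rw [e] <;> simp
      have hsol : Group.IsSolvable G2 :=
        H59.solvable_of_card (by omega) (by rcases hc with e | e <;> rw [e] <;> norm_num)
      haveI := hs
      exact hnc ⟨⟨(IsSimpleGroup.comm_iff_isSolvable (G := G2)).2 hsol⟩⟩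
    -- subfields of size at least four are everything
    have hsubf : ∀ d, 0 < d → d ∣ n → 4 ≤ p ^ d → d = n := by
      intro d hd hdn h4d
      obtain ⟨K, hK⟩ := H42.exists_subfield_card p hn hd.ne' hdn
      haveI : Fintype K := Fintype.ofFinite K
      obtain ⟨j, rfl⟩ := hdn
      rw [Nat.card_eq_fintype_card] at hK
      obtain ⟨H, ⟨e⟩⟩ := exists_psl_subgroup (F := F) (K := K) (m := j)
        (Nat.pos_of_ne_zero (by rintro rfl; omega)) (by rw [hK, ← pow_mul, hn])
      have hns := G2_not_solvable (F := K) (by rw [hK]; exact h4d)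
      by_cases hH : H = ⊤
      · have hc := congrArg (fun S : Subgroup G2 => Nat.card S) hH
        rw [Nat.card_congr e.toEquiv, Subgroup.card_top, card_G2_eq, card_G2_eq, hK, hn] at hc
        by_contra hne
        have hj : 2 ≤ j := by
          rcases Nat.lt_or_ge j 2 with hj | hj
          · interval_cases j <;> omega
          · exact hj
        have h1 : (p ^ d) ^ 2 ≤ p ^ (d * j) := by
          rw [← pow_mul]; exact Nat.pow_le_pow_right hp.pos (Nat.mul_le_mul_left _ hj)
        set a := p ^ d
        set b := p ^ (d * j)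
        have hab : 4 * a ≤ b := le_trans (by rw [sq]; exact Nat.mul_le_mul_right _ h4d) h1
        have h2 : (a - 1) / Nat.gcd 2 (a - 1) ≤ (b - 1) / Nat.gcd 2 (b - 1) := by
          have g1 : 1 ≤ Nat.gcd 2 (a - 1) := Nat.gcd_pos_of_pos_left _ two_pos
          have g2 : Nat.gcd 2 (b - 1) ≤ 2 := Nat.le_of_dvd two_pos (Nat.gcd_dvd_left _ _)
          refine (Nat.div_le_self _ _).trans ?_
          rw [Nat.le_div_iff_mul_le (Nat.gcd_pos_of_pos_left _ two_pos)]
          exact le_trans (Nat.mul_le_mul_left _ g2) (by omega)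
        have h3 : 0 < (b - 1) / Nat.gcd 2 (b - 1) :=
          Nat.div_pos (le_trans (Nat.le_of_dvd two_pos (Nat.gcd_dvd_left _ _)) (by omega))
            (Nat.gcd_pos_of_pos_left _ two_pos)
        have h5 : a * ((a - 1) / Nat.gcd 2 (a - 1)) * (a + 1) <
            b * ((b - 1) / Nat.gcd 2 (b - 1)) * (b + 1) :=
          Nat.mul_lt_mul_of_le_of_lt (Nat.mul_le_mul (by omega) h2) (by omega) (Nat.mul_pos (by omega) h3)
        omega
      · exact absurd (solvable_of_equiv e.symm (hsolv H hH)) hns
    have hA5 : 5 ∣ qq * (qq ^ 2 - 1) → Nat.card G2 = 60 := by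
      intro h5
      obtain ⟨H, ⟨e⟩⟩ := (exists_alt5_iff p).2 h5
      by_cases hH : H = ⊤
      · have hc := congrArg (fun S : Subgroup G2 => Nat.card S) hH
        rw [Subgroup.card_top, Nat.card_congr e.toEquiv, nat_card_alternatingGroup, Nat.card_fin] at hc
        exact hc.symm
      · exact absurd (solvable_of_equiv e.symm (hsolv H hH)) alt5_not_solvable
    have hprimeexp : ∀ d₀, (∀ d, 0 < d → d₀ ≤ d → 4 ≤ p ^ d) → d₀ ≤ 2 → 2 ≤ n → n.Prime := by
      intro d₀ hd₀ hd2 hn2
      refine Nat.prime_def.2 ⟨hn2, fun d hdn => ?_⟩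
      by_contra hcon
      push Not at hcon
      have hd : 0 < d := Nat.pos_of_ne_zero (by rintro rfl; simp at hdn; omega)
      exact hcon.2 (hsubf d hd hdn (hd₀ d hd (by omega)))
    by_cases hp2 : p = 2
    · left
      subst hp2
      refine ⟨n, hprimeexp 2 (fun d _ hd => ?_) le_rfl ?_, hn⟩
      · exact le_trans (by norm_num) (Nat.pow_le_pow_right two_pos hd)
      · by_contra hlt
        rw [show n = 1 by omega] at hn
        omega
    by_cases hp3 : p = 3
    · right; left
      subst hp3
      have hpr := hprimeexp 2 (fun d _ hd => le_trans (by norm_num) (Nat.pow_le_pow_right (by norm_num) hd))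
        le_rfl (by
          by_contra hlt
          rw [show n = 1 by omega] at hn
          omega)
      refine ⟨n, hpr, ?_, hn⟩
      intro e
      rw [e] at hn
      have h60 := hA5 (by rw [hn]; norm_num)
      rw [card_G2_eq, hn] at h60
      norm_num at h60
    have hp5 : 5 ≤ p := by
      have := hp.two_le
      by_contra h
      interval_cases p <;> first | omega | exact absurd hp (by decide)
    have hn1 : n = 1 := by
      by_contra hne
      exact hne (hsubf 1 one_pos (one_dvd _) (by rw [pow_one]; omega)).symm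
    rw [hn1, pow_one] at hn
    right; right
    by_cases hq5 : qq = 5
    · exact Or.inr hq5
    · left
      refine ⟨hn ▸ hp, by omega, ?_⟩
      by_contra hm
      have h60 := hA5 (five_dvd_of_mod p hm)
      rw [card_G2_eq] at h60
      have hodd : qq % 2 = 1 := by
        rw [hn]; exact Nat.odd_iff.1 (hp.odd_of_ne_two hp2)
      have hg : Nat.gcd 2 (qq - 1) = 2 := gcd_eq_two (Nat.odd_iff.2 hodd)
      rw [hg] at h60
      have : 7 * 3 * 8 ≤ qq * ((qq - 1) / 2) * (qq + 1) :=
        Nat.mul_le_mul (Nat.mul_le_mul (by omega) (by omega)) (by omega)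
      omega
  · intro h
    have h4 : 4 ≤ qq := by
      rcases h with ⟨r, hr, e⟩ | ⟨r, hr, -, e⟩ | ⟨-, h5, -⟩ | h5
      · rw [e]; exact le_trans (by norm_num) (Nat.pow_le_pow_right two_pos hr.two_le)
      · rw [e]; exact le_trans (by norm_num) (Nat.pow_le_pow_right (by norm_num) hr.two_le)
      · omega
      · omega
    refine ⟨G2_simple h4, fun hc => G2_not_solvable h4 (Group.isSolvable_of_comm fun a b => hc.is_comm.comm a b),
      fun H hH => proper_solvable p ?_ ?_ hH⟩
    · rcases h with ⟨r, hr, e⟩ | ⟨r, hr, hr2, e⟩ | ⟨-, -, hm⟩ | h5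
      · rcases hr.eq_two_or_odd' with rfl | ⟨k, rfl⟩
        · right; rw [card_G2_eq, e]; norm_num
        · left; exact not_five_dvd_of_mod p (e ▸ two_pow_odd_mod_five p k)
      · obtain ⟨k, rfl⟩ := hr.odd_of_ne_two hr2
        left; exact not_five_dvd_of_mod p (e ▸ three_pow_odd_mod_five p k)
      · left; exact not_five_dvd_of_mod p hm
      · right; rw [card_G2_eq, h5]; norm_num
    · intro K
      obtain ⟨m, hm0, hm⟩ := H42.subfield_card_pow K
      have key : ∀ a r : ℕ, a.Prime → r.Prime → qq = a ^ r → Nat.card K = qq ∨ Nat.card K = a := by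
        intro a r ha hr e
        rw [hm] at e
        obtain ⟨i, hir, hi⟩ := (Nat.dvd_prime_pow ha).1 (e ▸ dvd_pow_self (Nat.card K) hm0.ne')
        rw [hi, ← pow_mul] at e
        have hr' := Nat.pow_right_injective ha.two_le e
        rcases (Nat.dvd_prime hr).1 (Dvd.intro _ hr') with h1 | h1
        · right; rw [hi, h1, pow_one]
        · left
          subst h1
          have : m = 1 := Nat.eq_of_mul_eq_mul_left hr.pos (hr'.trans (mul_one i).symm)
          rw [hm, this, pow_one]
      rcases h with ⟨r, hr, e⟩ | ⟨r, hr, -, e⟩ | ⟨hq, -, -⟩ | h5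
      · exact (key 2 r Nat.prime_two hr e).imp id (by omega)
      · exact (key 3 r Nat.prime_three hr e).imp id (by omega)
      · left
        have hK2 : 1 < Nat.card K := Finite.one_lt_card
        exact ((Nat.dvd_prime hq).1 (hm ▸ dvd_pow_self _ hm0.ne')).resolve_left (by omega)
      · left
        have hK2 : 1 < Nat.card K := Finite.one_lt_card
        exact ((Nat.dvd_prime (h5 ▸ (by norm_num : Nat.Prime 5))).1 (hm ▸ dvd_pow_self _ hm0.ne')).resolve_left
          (by omega)

end H39
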