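import Mathlib
import Cfsg.Agent.H40.Bruhat
import Cfsg.Agent.H37.Sylow

/-!
Overgroups of the unitriangular group in `SL_n` are normalized by its normalizer.
-/

set_option autoImplicit false
set_option maxHeartbeats 800000

namespace H39.Unip

open Matrix

variable {F : Type*} [Field F] {n : ℕ}

local notation "SLn" => Matrix.SpecialLinearGroup (Fin n) F

/-- The elementary transvections of `SL_n`. -/
noncomputable def el {a b : Fin n} (h : a ≠ b) (x : F) : Matrix.SpecialLinearGroup (Fin n) F :=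
  Matrix.SpecialLinearGroup.transvection h x

theorem el_val {a b : Fin n} (h : a ≠ b) (x : F) :
    (el h x : Matrix (Fin n) (Fin n) F) = Matrix.transvection a b x := rfl

theorem el_mem_unitriangular {a b : Fin n} (h : a < b) (x : F) :
    el h.ne x ∈ H37.unitriangularSL n F := by
  refine ⟨fun r c hrc => ?_, fun r => ?_⟩
  · simp only [id] at hrc
    show Matrix.transvection a b x r c = 0
    rw [Matrix.transvection, Matrix.add_apply, Matrix.one_apply_ne hrc.ne', Matrix.single_apply,
      if_neg (by rintro ⟨rfl, rfl⟩; exact absurd h hrc.asymm), add_zero]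
  · show Matrix.transvection a b x r r = 1
    rw [Matrix.transvection, Matrix.add_apply, Matrix.one_apply_eq, Matrix.single_apply,
      if_neg (by rintro ⟨rfl, rfl⟩; exact lt_irrefl _ h), add_zero]

/-- `m` is monomial with permutation `σ`. -/
def IsMon (σ : Equiv.Perm (Fin n)) (m : Matrix.SpecialLinearGroup (Fin n) F) : Prop :=
  ∀ r c, r ≠ σ c → (m : Matrix (Fin n) (Fin n) F) r c = 0

theorem IsMon.ne_zero {σ : Equiv.Perm (Fin n)} {m : SLn} (hm : IsMon σ m) (c : Fin n) :
    (m : Matrix (Fin n) (Fin n) F) (σ c) c ≠ 0 := by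
  intro h
  have := m.2
  rw [Matrix.det_eq_zero_of_column_eq_zero c fun r => if hr : r = σ c then hr ▸ h else hm r c hr] at this
  exact zero_ne_one this

theorem IsMon.mul_el {σ : Equiv.Perm (Fin n)} {m : SLn} (hm : IsMon σ m) {a b : Fin n} (hab : a ≠ b) (x y : F)
    (h : y * (m : Matrix (Fin n) (Fin n) F) (σ b) b = x * (m : Matrix (Fin n) (Fin n) F) (σ a) a) :
    m * el hab x * m⁻¹ = el (σ.injective.ne hab) y := by
  rw [mul_inv_eq_iff_eq_mul]
  refine Subtype.ext (Matrix.ext fun r c => ?_)
  show ((m : Matrix (Fin n) (Fin n) F) * (el hab x : Matrix (Fin n) (Fin n) F)) r c =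
    ((el (σ.injective.ne hab) y : Matrix (Fin n) (Fin n) F) * (m : Matrix (Fin n) (Fin n) F)) r c
  rw [el_val, el_val]
  by_cases hc : c = b
  · subst hc
    rw [Matrix.mul_transvection_apply_same]
    by_cases hr : r = σ a
    · subst hr
      rw [Matrix.transvection_mul_apply_same, h, mul_comm x]
    · rw [Matrix.transvection_mul_apply_of_ne _ _ _ _ hr, hm r a hr, mul_zero, add_zero]
  · rw [Matrix.mul_transvection_apply_of_ne _ _ _ _ hc]
    by_cases hr : r = σ a
    · subst hr
      rw [Matrix.transvection_mul_apply_same, hm (σ b) c (σ.injective.ne (Ne.symm hc)), mul_zero, add_zero]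
    · rw [Matrix.transvection_mul_apply_of_ne _ _ _ _ hr]

/-- A subgroup containing a monomial element and a root subgroup contains its image. -/
theorem el_mem_of_mon {K : Subgroup SLn} {σ : Equiv.Perm (Fin n)} {m : SLn} (hm : IsMon σ m)
    (hmK : m ∈ K) {a b : Fin n} (hab : a ≠ b) (hK : ∀ x : F, el hab x ∈ K) (y : F) :
    el (σ.injective.ne hab) y ∈ K := by
  rw [← hm.mul_el hab (y * (m : Matrix (Fin n) (Fin n) F) (σ b) b /
    (m : Matrix (Fin n) (Fin n) F) (σ a) a) y (div_mul_cancel₀ _ (hm.ne_zero a)).symm]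
  exact K.mul_mem (K.mul_mem hmK (hK _)) (K.inv_mem hmK)

theorem isMon_one_upper {m : SLn} (hm : IsMon 1 m) :
    (m : Matrix (Fin n) (Fin n) F).BlockTriangular id := fun r c hrc =>
  hm r c (by simpa using hrc.ne')

/-- Two successive positions out of order. -/
theorem exists_descent {σ : Equiv.Perm (Fin n)} (h : σ ≠ 1) :
    ∃ a b i j : Fin n, a < b ∧ σ a = j ∧ σ b = i ∧ (j : ℕ) = i + 1 := by
  by_contra hc
  push Not at hc
  apply h
  have hstep : ∀ i j : Fin n, (j : ℕ) = i + 1 → σ.symm i < σ.symm j := by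
    intro i j hij
    rcases lt_trichotomy (σ.symm i) (σ.symm j) with h' | h' | h'
    · exact h'
    · have := σ.symm.injective h'
      omega
    · exact absurd hij (hc _ _ i j h' (σ.apply_symm_apply j) (σ.apply_symm_apply i))
  have hmono : StrictMono σ.symm := by
    intro i j hij
    have key : ∀ k : ℕ, ∀ (hk : k < n), (i : ℕ) < k → σ.symm i < σ.symm ⟨k, hk⟩ := by
      intro k
      induction k with
      | zero => intro _ h; omega
      | succ k ih =>
        intro hk hik
        have h1 := hstep ⟨k, by omega⟩ ⟨k + 1, hk⟩ rfl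
        rcases Nat.lt_or_ge (i : ℕ) k with h2 | h2
        · exact (ih (by omega) h2).trans h1
        · have : i = ⟨k, by omega⟩ := Fin.ext (show (i : ℕ) = k by omega)
          rw [this]; exact h1
    exact key j j.2 hij
  have : (σ.symm : Fin n → Fin n) = id := (hmono.range_inj strictMono_id).1 (by
    rw [σ.symm.range_eq_univ, Set.range_id])
  ext i
  have := congrFun this (σ i)
  simp at this
  simp [← this]

/-- The weighted sum used to induct on permutations. -/
def wsum (σ : Equiv.Perm (Fin n)) : ℕ := ∑ c : Fin n, (c : ℕ) * ((σ c : Fin n) : ℕ)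

theorem wsum_le (σ : Equiv.Perm (Fin n)) : wsum σ ≤ n * (n * n) := by
  refine (Finset.sum_le_card_nsmul _ _ (n * n) fun c _ => ?_).trans (by simp)
  exact Nat.mul_le_mul c.2.le (σ c).2.le

theorem wsum_lt {σ : Equiv.Perm (Fin n)} {a b i j : Fin n} (hab : a < b) (ha : σ a = j) (hb : σ b = i)
    (hij : (j : ℕ) = i + 1) : wsum σ < wsum (Equiv.swap i j * σ) := by
  have hne : a ≠ b := hab.ne
  rw [wsum, wsum, ← Finset.add_sum_erase _ _ (Finset.mem_univ a),
    ← Finset.add_sum_erase (Finset.univ) _ (Finset.mem_univ a),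
    ← Finset.add_sum_erase _ _ (Finset.mem_erase.2 ⟨hne.symm, Finset.mem_univ b⟩),
    ← Finset.add_sum_erase ((Finset.univ).erase a) _ (Finset.mem_erase.2 ⟨hne.symm, Finset.mem_univ b⟩)]
  have hrest : ∀ c ∈ ((Finset.univ : Finset (Fin n)).erase a).erase b,
      (c : ℕ) * ((Equiv.swap i j * σ) c : ℕ) = (c : ℕ) * (σ c : ℕ) := by
    intro c hc
    simp only [Finset.mem_erase] at hc
    rw [Equiv.Perm.mul_apply, Equiv.swap_apply_of_ne_of_ne]
    · rw [← hb]; exact fun h => hc.1 (σ.injective h)
    · rw [← ha]; exact fun h => hc.2.1 (σ.injective h)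
  rw [Finset.sum_congr rfl hrest, Equiv.Perm.mul_apply, Equiv.Perm.mul_apply, ha, hb,
    Equiv.swap_apply_right, Equiv.swap_apply_left, hij]
  have hab' : (a : ℕ) < b := hab
  nlinarith

/-- The monomial element exchanging two coordinates. -/
noncomputable def weyl {i j : Fin n} (h : i ≠ j) : Matrix.SpecialLinearGroup (Fin n) F :=
  el h 1 * el h.symm (-1) * el h 1

theorem weyl_val {i j : Fin n} (h : i ≠ j) (r c : Fin n) :
    (weyl (F := F) h : Matrix (Fin n) (Fin n) F) r c =
      if r = i then (if c = j then 1 else 0) else if r = j then (if c = i then -1 else 0)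
        else if r = c then 1 else 0 := by
  show (((el h (1 : F) : SLn) : Matrix (Fin n) (Fin n) F) * (el h.symm (-1 : F) : SLn).1 *
    (el h (1 : F) : SLn).1) r c = _
  rw [el_val, el_val, mul_assoc]
  by_cases hri : r = i
  · subst hri
    rw [Matrix.transvection_mul_apply_same, Matrix.transvection_mul_apply_of_ne _ _ _ _ h,
      Matrix.transvection_mul_apply_same]
    by_cases hc : c = j <;> simp [hc, Matrix.transvection, Matrix.single_apply, Matrix.one_apply, h,
      h.symm] <;> (try split_ifs) <;> simp_all [eq_comm]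
  · rw [Matrix.transvection_mul_apply_of_ne _ _ _ _ hri]
    by_cases hrj : r = j
    · subst hrj
      rw [Matrix.transvection_mul_apply_same]
      by_cases hc : c = i <;> simp [hc, Matrix.transvection, Matrix.single_apply, Matrix.one_apply, h,
        h.symm, hri] <;> (try split_ifs) <;> simp_all [eq_comm]
    · rw [Matrix.transvection_mul_apply_of_ne _ _ _ _ hrj]
      simp [Matrix.transvection, Matrix.single_apply, Matrix.one_apply, hri, hrj, Ne.symm hri, eq_comm]

theorem isMon_weyl_mul {i j : Fin n} (h : i ≠ j) {σ : Equiv.Perm (Fin n)} {m : SLn} (hm : IsMon σ m) :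
    IsMon (Equiv.swap i j * σ) (weyl h * m) := by
  intro r c hrc
  show ((weyl (F := F) h : SLn).1 * m.1) r c = 0
  rw [Matrix.mul_apply]
  refine Finset.sum_eq_zero fun k _ => ?_
  by_cases hk : k = σ c
  · subst hk
    rw [Equiv.Perm.mul_apply] at hrc
    rw [weyl_val]
    split_ifs with h1 h2 h3 h4 h5
    · exact absurd (by rw [h2, Equiv.swap_apply_right, h1]) hrc
    · rw [zero_mul]
    · exact absurd (by rw [h4, Equiv.swap_apply_left, h3]) hrc
    · rw [zero_mul]
    · exact absurd (by rw [← h5, Equiv.swap_apply_of_ne_of_ne h1 h3]) hrc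
    · rw [zero_mul]
  · rw [hm k c hk, mul_zero]

/-- A monomial element of an overgroup of `U` is moved into the overgroup by every diagonal element. -/
theorem mon_conj_mem {K : Subgroup SLn} (hUK : H37.unitriangularSL n F ≤ K) {d : SLn} (hd : IsMon 1 d) :
    ∀ (k : ℕ) (σ : Equiv.Perm (Fin n)) (m : SLn), n * (n * n) - wsum σ ≤ k → IsMon σ m → m ∈ K →
      d * m * d⁻¹ ∈ K := by
  intro k
  induction k using Nat.strong_induction_on with
  | _ k ih =>
    intro σ m hk hm hmK
    by_cases h : σ = 1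
    · subst h
      rw [show d * m = m * d from ?_]
      · rwa [mul_inv_cancel_right]
      refine Subtype.ext (Matrix.ext fun r c => ?_)
      show (d.1 * m.1) r c = (m.1 * d.1) r c
      rw [Matrix.mul_apply, Matrix.mul_apply, Finset.sum_eq_single r, Finset.sum_eq_single r]
      · by_cases hrc : r = c
        · subst hrc; ring
        · rw [hm r c (by simpa using hrc), hd r c (by simpa using hrc), mul_zero, mul_zero]
      · intro b _ hb; rw [hm r b (by simpa using hb.symm), zero_mul]
      · simp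
      · intro b _ hb; rw [hd r b (by simpa using hb.symm), zero_mul]
      · simp
    · obtain ⟨a, b, i, j, hab, ha, hb, hij⟩ := exists_descent h
      have hne : i ≠ j := fun e => by rw [e] at hij; omega
      have hji : ∀ y : F, el hne.symm y ∈ K := by
        intro y
        have h1 := el_mem_of_mon hm hmK hab.ne (fun x => hUK (el_mem_unitriangular hab x)) y
        convert h1 using 2 <;> first | exact ha.symm | exact hb.symm
      have hij' : ∀ y : F, el hne y ∈ K := fun y =>
        hUK (el_mem_unitriangular (show i < j from Fin.lt_def.2 (by omega)) y)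
      have hroot : ∀ {u v : Fin n} (huv : u ≠ v), (∀ y, el huv y ∈ K) → ∀ y : F,
          d * el huv y * d⁻¹ ∈ K := by
        intro u v huv hK y
        rw [hd.mul_el huv y (y * d.1 u u / d.1 v v) (by
          simpa using div_mul_cancel₀ (y * d.1 u u) (by simpa using hd.ne_zero v))]
        simpa using hK _
      have hw : weyl hne ∈ K := K.mul_mem (K.mul_mem (hij' 1) (hji (-1))) (hij' 1)
      have hdw : d * weyl hne * d⁻¹ ∈ K := by
        rw [weyl, show d * (el hne 1 * el hne.symm (-1) * el hne 1) * d⁻¹ =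
          (d * el hne 1 * d⁻¹) * (d * el hne.symm (-1) * d⁻¹) * (d * el hne 1 * d⁻¹) by simp [mul_assoc]]
        exact K.mul_mem (K.mul_mem (hroot hne hij' 1) (hroot hne.symm hji (-1))) (hroot hne hij' 1)
      have hlt := wsum_lt hab ha hb hij
      have hle := wsum_le (Equiv.swap i j * σ)
      have h2 := ih (n * (n * n) - wsum (Equiv.swap i j * σ)) (by omega) _ _ le_rfl (isMon_weyl_mul hne hm) (K.mul_mem hw hmK)
      have := K.mul_mem (K.inv_mem hdw) h2
      simpa [mul_assoc] using this

/-- The diagonal part of an upper triangular element of `GL_n`. -/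
noncomputable def diagPart (b : GL (Fin n) F) (hb : (b : Matrix (Fin n) (Fin n) F).BlockTriangular id) :
    GL (Fin n) F :=
  Matrix.GeneralLinearGroup.mkOfDetNeZero (Matrix.diagonal fun i => (b : Matrix (Fin n) (Fin n) F) i i) (by
    rw [Matrix.det_diagonal, ← Matrix.det_of_isUpperTriangular hb]
    exact Matrix.GeneralLinearGroup.det_ne_zero b)

theorem diagPart_val (b : GL (Fin n) F) (hb : (b : Matrix (Fin n) (Fin n) F).BlockTriangular id) :
    (diagPart b hb : Matrix (Fin n) (Fin n) F) =
      Matrix.diagonal fun i => (b : Matrix (Fin n) (Fin n) F) i i := rfl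

theorem diagPart_inv_val (b : GL (Fin n) F) (hb : (b : Matrix (Fin n) (Fin n) F).BlockTriangular id) :
    ((diagPart b hb)⁻¹ : GL (Fin n) F).1 =
      Matrix.diagonal fun i => ((b : Matrix (Fin n) (Fin n) F) i i)⁻¹ := by
  refine (Units.eq_inv_of_mul_eq_one_left ?_).symm
  rw [diagPart_val, Matrix.diagonal_mul_diagonal, ← Matrix.diagonal_one]
  congr 1
  funext i
  refine mul_inv_cancel₀ (a := (b : Matrix (Fin n) (Fin n) F) i i) fun h => ?_
  have := Matrix.GeneralLinearGroup.det_ne_zero b
  rw [Matrix.det_of_isUpperTriangular hb] at this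
  exact this (Finset.prod_eq_zero (Finset.mem_univ i) h)

theorem diag_ne_zero {b : GL (Fin n) F} (hb : (b : Matrix (Fin n) (Fin n) F).BlockTriangular id) (i : Fin n) :
    (b : Matrix (Fin n) (Fin n) F) i i ≠ 0 := fun h => by
  have := Matrix.GeneralLinearGroup.det_ne_zero b
  rw [Matrix.det_of_isUpperTriangular hb] at this
  exact this (Finset.prod_eq_zero (Finset.mem_univ i) h)

theorem exists_unipotent_mon (h : SLn) :
    ∃ u₁ ∈ H37.unitriangularSL n F, ∃ u₂ ∈ H37.unitriangularSL n F, ∃ (σ : Equiv.Perm (Fin n)) (m : SLn),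
      IsMon σ m ∧ h = u₁ * m * u₂ := by
  obtain ⟨b₁, b₂, σ, hb₁, hb₂, he⟩ := H40.exists_bruhat (Matrix.SpecialLinearGroup.toGL h)
  have hu₁ : b₁ * (diagPart b₁ hb₁)⁻¹ ∈ H37.unitriangular n F := by
    refine ⟨?_, fun i => ?_⟩
    · rw [Units.val_mul, diagPart_inv_val]
      exact hb₁.mul (Matrix.blockTriangular_diagonal _)
    · rw [Units.val_mul, diagPart_inv_val, Matrix.mul_diagonal, mul_inv_cancel₀ (diag_ne_zero hb₁ i)]
  have hu₂ : (diagPart b₂ hb₂)⁻¹ * b₂ ∈ H37.unitriangular n F := by
    refine ⟨?_, fun i => ?_⟩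
    · rw [Units.val_mul, diagPart_inv_val]
      exact (Matrix.blockTriangular_diagonal _).mul hb₂
    · rw [Units.val_mul, diagPart_inv_val, Matrix.diagonal_mul, inv_mul_cancel₀ (diag_ne_zero hb₂ i)]
  obtain ⟨u₁, e₁⟩ := H37.unitriangular_le_range_toGL n hu₁
  obtain ⟨u₂, e₂⟩ := H37.unitriangular_le_range_toGL n hu₂
  refine ⟨u₁, by show Matrix.SpecialLinearGroup.toGL u₁ ∈ H37.unitriangular n F; rwa [e₁],
    u₂, by show Matrix.SpecialLinearGroup.toGL u₂ ∈ H37.unitriangular n F; rwa [e₂], σ, u₁⁻¹ * h * u₂⁻¹, ?_, by simp [mul_assoc]⟩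
  intro r c hrc
  have e : Matrix.SpecialLinearGroup.toGL (u₁⁻¹ * h * u₂⁻¹) =
      diagPart b₁ hb₁ * H40.permGL F σ * diagPart b₂ hb₂ := by
    rw [map_mul, map_mul, map_inv, map_inv, e₁, e₂, he]
    simp [mul_assoc]
  have e' : ((Matrix.SpecialLinearGroup.toGL (u₁⁻¹ * h * u₂⁻¹) : GL (Fin n) F) : Matrix (Fin n) (Fin n) F) =
      ((diagPart b₁ hb₁ * H40.permGL F σ * diagPart b₂ hb₂ : GL (Fin n) F) : Matrix (Fin n) (Fin n) F) := by rw [e]
  have : (u₁⁻¹ * h * u₂⁻¹ : SLn).1 r c =
      ((diagPart b₁ hb₁ * H40.permGL F σ * diagPart b₂ hb₂ : GL (Fin n) F) : Matrix (Fin n) (Fin n) F) r c :=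
    congrFun (congrFun e' r) c
  rw [Units.val_mul, Units.val_mul, diagPart_val, diagPart_val, Matrix.mul_diagonal, Matrix.diagonal_mul,
    H40.coe_permGL, H40.permMat, Matrix.of_apply, if_neg hrc] at this
  rw [this, mul_zero, zero_mul]

theorem upper_of_normalizes {g : SLn}
    (hg : g ∈ Subgroup.normalizer ((H37.unitriangularSL n F : Subgroup SLn) : Set SLn)) :
    (g : Matrix (Fin n) (Fin n) F).BlockTriangular id := by
  obtain ⟨u₁, hu₁, u₂, hu₂, σ, m, hm, rfl⟩ := exists_unipotent_mon g
  have hmN : m ∈ Subgroup.normalizer ((H37.unitriangularSL n F : Subgroup SLn) : Set SLn) := by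
    have := mul_mem (mul_mem (inv_mem (Subgroup.le_normalizer hu₁)) hg) (inv_mem (Subgroup.le_normalizer hu₂))
    simpa [mul_assoc] using this
  have hσ : σ = 1 := by
    by_contra h
    obtain ⟨a, b, i, j, hab, ha, hb, hij⟩ := exists_descent h
    have := (Subgroup.mem_normalizer_iff.1 hmN _).1 (el_mem_unitriangular hab
      ((1 : F) * m.1 (σ b) b / m.1 (σ a) a))
    rw [hm.mul_el hab.ne _ 1 (div_mul_cancel₀ _ (hm.ne_zero a)).symm] at this
    have h0 : (Matrix.transvection (σ a) (σ b) (1 : F)) (σ a) (σ b) = 0 :=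
      this.1 (by simp only [id]; rw [ha, hb, Fin.lt_def]; omega)
    simp [Matrix.transvection, Matrix.one_apply_ne (σ.injective.ne hab.ne)] at h0
  subst hσ
  show (u₁.1 * m.1 * u₂.1).BlockTriangular id
  exact (Matrix.BlockTriangular.mul hu₁.1 (isMon_one_upper hm)).mul hu₂.1

/-- Every overgroup of `U` is normalized by the normalizer of `U`. -/
theorem normalizer_unitriangular_le [Finite F] {K : Subgroup SLn} (hUK : H37.unitriangularSL n F ≤ K) :
    Subgroup.normalizer ((H37.unitriangularSL n F : Subgroup SLn) : Set SLn) ≤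
      Subgroup.normalizer (K : Set SLn) := by
  intro g hg
  obtain ⟨u₁, hu₁, u₂, hu₂, σ, d, hd, rfl⟩ := exists_unipotent_mon g
  have hdN : d ∈ Subgroup.normalizer ((H37.unitriangularSL n F : Subgroup SLn) : Set SLn) := by
    have := mul_mem (mul_mem (inv_mem (Subgroup.le_normalizer hu₁)) hg) (inv_mem (Subgroup.le_normalizer hu₂))
    simpa [mul_assoc] using this
  have hσ : σ = 1 := by
    have h1 := upper_of_normalizes hdN
    by_contra h
    obtain ⟨a, b, i, j, hab, ha, hb, hij⟩ := exists_descent h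
    -- a triangular monomial matrix is diagonal
    have hle : ∀ c, (σ c : ℕ) ≤ c := fun c => by
      by_contra hlt
      exact hd.ne_zero c (h1 (show c < σ c from Fin.lt_def.2 (by omega)))
    apply h
    have hsum : ∑ c, ((σ c : ℕ)) = ∑ c : Fin n, (c : ℕ) := Equiv.sum_comp σ (fun c : Fin n => (c : ℕ))
    ext c
    exact (Finset.sum_eq_sum_iff_of_le fun c _ => hle c).1 hsum c (Finset.mem_univ c)
  subst hσ
  refine mul_mem (mul_mem (Subgroup.le_normalizer (hUK hu₁)) ?_) (Subgroup.le_normalizer (hUK hu₂))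
  rw [Subgroup.mem_normalizer_iff_map_conj_eq]
  refine Subgroup.eq_of_le_of_card_ge ?_ (le_of_eq (Subgroup.card_map_of_injective
    (MulAut.conj d).injective).symm)
  rintro _ ⟨h, hh, rfl⟩
  obtain ⟨v₁, hv₁, v₂, hv₂, τ, m, hm, rfl⟩ := exists_unipotent_mon h
  have hmK : m ∈ K := by
    have := mul_mem (mul_mem (inv_mem (hUK hv₁)) hh) (inv_mem (hUK hv₂))
    simpa [mul_assoc] using this
  show d * (v₁ * m * v₂) * d⁻¹ ∈ K
  rw [show d * (v₁ * m * v₂) * d⁻¹ = (d * v₁ * d⁻¹) * (d * m * d⁻¹) * (d * v₂ * d⁻¹) by simp [mul_assoc]]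
  exact mul_mem (mul_mem (hUK ((Subgroup.mem_normalizer_iff.1 hdN _).1 hv₁))
    (mon_conj_mem hUK hd _ τ m le_rfl hm hmK)) (hUK ((Subgroup.mem_normalizer_iff.1 hdN _).1 hv₂))

end H39.Unip
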