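import Mathlib
import Cfsg.Agent.H39.MinSimple

/-!
Solubilizers in minimal simple `PSL₂(q)`: generalities and semisimple elements of order at least three.
-/

set_option autoImplicit false
set_option maxHeartbeats 800000

namespace H39

open Matrix
open scoped MatrixGroups

section generic

variable {G : Type*} [Group G]

/-- `y` lies in the solubilizer of `x`. -/
def SolPair (x y : G) : Prop := Group.IsSolvable ↥(Subgroup.closure ({x, y} : Set G))

theorem solPair_mem (x y : G) :
    x ∈ Subgroup.closure ({x, y} : Set G) ∧ y ∈ Subgroup.closure ({x, y} : Set G) :=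
  ⟨Subgroup.subset_closure (by simp), Subgroup.subset_closure (by simp)⟩

theorem solPair_map {H : Type*} [Group H] (e : G ≃* H) (x y : G) :
    SolPair (e x) (e y) ↔ SolPair x y := by
  have h : (Subgroup.closure ({x, y} : Set G)).map e.toMonoidHom = Subgroup.closure {e x, e y} := by
    rw [MonoidHom.map_closure, Set.image_pair]; rfl
  have i : ↥(Subgroup.closure ({x, y} : Set G)) ≃* ↥(Subgroup.closure ({e x, e y} : Set H)) :=
    (Subgroup.equivMapOfInjective _ _ e.injective).trans (MulEquiv.subgroupCongr h)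
  exact ⟨fun hs => solvable_of_equiv i hs, fun hs => solvable_of_equiv i.symm hs⟩

theorem card_sol_map {H : Type*} [Group H] (e : G ≃* H) (x : G) :
    Nat.card {y : H // SolPair (e x) y} = Nat.card {y : G // SolPair x y} :=
  (Nat.card_congr (e.toEquiv.subtypeEquiv fun y => (solPair_map e x y).symm)).symm

theorem solPair_of_commute {x y : G} (h : Commute x y) : SolPair x y := by
  have key : ∀ a ∈ Subgroup.closure ({x, y} : Set G), ∀ b ∈ Subgroup.closure ({x, y} : Set G),
      Commute a b := by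
    intro a ha b hb
    have := Subgroup.closure_le_centralizer_centralizer ({x, y} : Set G) ha
    refine (Subgroup.mem_centralizer_iff.1 this b ?_).symm
    refine Subgroup.closure_le _ |>.2 ?_ hb
    intro c hc
    refine Subgroup.mem_centralizer_iff.2 fun d hd => ?_
    rcases hc with rfl | rfl <;> rcases hd with rfl | rfl
    · rfl
    · exact h.symm.eq
    · exact h.eq
    · rfl
  exact Group.isSolvable_of_comm fun a b => Subtype.ext (key a a.2 b b.2)

/-- In a minimal simple group, pairs normalising a proper nontrivial subgroup are solvable. -/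
theorem solPair_of_normalizer (hG : Cfsg.IsMinimalSimple G) {x y : G} {Z : Subgroup G} (h1 : Z ≠ ⊥)
    (h2 : Z ≠ ⊤) (hx : x ∈ Subgroup.normalizer (Z : Set G)) (hy : y ∈ Subgroup.normalizer (Z : Set G)) :
    SolPair x y := by
  refine hG.2.2 _ fun htop => ?_
  have hN : Subgroup.normalizer (Z : Set G) = ⊤ := by
    rw [eq_top_iff, ← htop, Subgroup.closure_le]
    rintro z (rfl | rfl) <;> assumption
  haveI := hG.1
  rcases (Subgroup.normalizer_eq_top_iff.1 hN).eq_bot_or_eq_top with h | h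
  · exact h1 h
  · exact h2 h

theorem zpowers_proper (hG : Cfsg.IsMinimalSimple G) (u : G) : Subgroup.zpowers u ≠ ⊤ := by
  intro h
  apply hG.2.1
  refine ⟨⟨fun a b => ?_⟩⟩
  obtain ⟨i, rfl⟩ := Subgroup.mem_zpowers_iff.1 (h ▸ Subgroup.mem_top a : a ∈ Subgroup.zpowers u)
  obtain ⟨j, rfl⟩ := Subgroup.mem_zpowers_iff.1 (h ▸ Subgroup.mem_top b : b ∈ Subgroup.zpowers u)
  exact (Commute.zpow_zpow_self u i j).eq

theorem inverting_normalizes {u g : G} (hg : g * u * g⁻¹ = u⁻¹) (hg2 : g * g = 1) :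
    g ∈ Subgroup.normalizer (Subgroup.zpowers u : Set G) := by
  rw [Subgroup.mem_normalizer_iff]
  have hgi : g⁻¹ = g := inv_eq_of_mul_eq_one_right hg2
  have key : ∀ z ∈ Subgroup.zpowers u, g * z * g⁻¹ ∈ Subgroup.zpowers u := by
    intro z hz
    obtain ⟨i, rfl⟩ := Subgroup.mem_zpowers_iff.1 hz
    rw [← conj_zpow, hg]
    exact zpow_mem (inv_mem (Subgroup.mem_zpowers u)) i
  intro z
  refine ⟨key z, fun h => ?_⟩
  have := key _ h
  rwa [hgi, show g * (g * z * g) * g = g * g * z * (g * g) by simp [mul_assoc], hg2, one_mul,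
    mul_one] at this

/-- `x² = 1` and (`y² = 1` or `(xy)² = 1`) give a solvable pair. -/
theorem solPair_dihedral (hG : Cfsg.IsMinimalSimple G) {x y : G} (hx : x * x = 1)
    (h : y * y = 1 ∨ (x * y) * (x * y) = 1) : SolPair x y := by
  obtain ⟨v, hv, hvc⟩ : ∃ v, v * v = 1 ∧ (v = y ∨ v = x * y) := by
    rcases h with h | h
    · exact ⟨y, h, Or.inl rfl⟩
    · exact ⟨x * y, h, Or.inr rfl⟩
  by_cases hu : x * v = 1
  · have hvx : v = x := by
      have := congrArg (x * ·) hu
      simpa [← mul_assoc, hx] using this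
    refine solPair_of_commute ?_
    rcases hvc with e | e <;> rw [hvx] at e
    · subst e; exact Commute.refl _
    · rw [show y = 1 from mul_eq_left.1 e.symm]; exact Commute.one_right x
  set u := x * v
  have hxi : x⁻¹ = x := inv_eq_of_mul_eq_one_right hx
  have hvi : v⁻¹ = v := inv_eq_of_mul_eq_one_right hv
  have hxn : x ∈ Subgroup.normalizer (Subgroup.zpowers u : Set G) := inverting_normalizes
    (by simp only [u, _root_.mul_inv_rev, hxi, hvi, ← mul_assoc, hx, one_mul]) hx
  have hvn : v ∈ Subgroup.normalizer (Subgroup.zpowers u : Set G) := inverting_normalizes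
    (by simp only [u, _root_.mul_inv_rev, hxi, hvi, mul_assoc, hv, mul_one]) hv
  refine solPair_of_normalizer hG (Subgroup.zpowers_ne_bot.2 hu) (zpowers_proper hG u) hxn ?_
  rcases hvc with rfl | rfl
  · exact hvn
  · have := mul_mem hxn hvn
    rwa [← mul_assoc, hx, one_mul] at this

theorem dihedral_cases {k : ℕ} {H : Subgroup G} (e : H ≃* DihedralGroup k) {x y : G} (hx : x ∈ H)
    (hy : y ∈ H) :
    Commute x y ∨ x * x = 1 ∧ (y * y = 1 ∨ (x * y) * (x * y) = 1) ∨
      (y * x * y⁻¹ = x⁻¹) := by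
  have key : ∀ a b : DihedralGroup k, Commute a b ∨
      a * a = 1 ∧ (b * b = 1 ∨ (a * b) * (a * b) = 1) ∨ b * a * b⁻¹ = a⁻¹ := by
    rintro (i | i) (j | j)
    · left
      show _ = _
      rw [DihedralGroup.r_mul_r, DihedralGroup.r_mul_r, add_comm]
    · right; right
      rw [mul_inv_eq_iff_eq_mul, DihedralGroup.sr_mul_r, DihedralGroup.inv_r, DihedralGroup.r_mul_sr,
        sub_neg_eq_add]
    · right; left
      exact ⟨DihedralGroup.sr_mul_self i, Or.inr (by rw [DihedralGroup.sr_mul_r]; exact DihedralGroup.sr_mul_self _)⟩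
    · right; left
      exact ⟨DihedralGroup.sr_mul_self i, Or.inl (DihedralGroup.sr_mul_self j)⟩
  have mk : ∀ {g : G} (hg : g ∈ H), ((e.symm (e ⟨g, hg⟩) : H) : G) = g := fun hg => by simp
  let f : DihedralGroup k →* G := H.subtype.comp e.symm.toMonoidHom
  have hfx : f (e ⟨x, hx⟩) = x := mk hx
  have hfy : f (e ⟨y, hy⟩) = y := mk hy
  rcases key (e ⟨x, hx⟩) (e ⟨y, hy⟩) with h | ⟨h1, h2⟩ | h
  · left; have := h.map f; rwa [hfx, hfy] at this
  · right; left
    have e1 := congrArg f h1
    rw [map_mul, hfx, map_one] at e1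
    refine ⟨e1, h2.imp (fun h2 => ?_) fun h2 => ?_⟩
    · have e2 := congrArg f h2
      rwa [map_mul, hfy, map_one] at e2
    · have e2 := congrArg f h2
      rwa [map_mul, map_mul, hfx, hfy, map_one] at e2
  · right; right
    have e2 := congrArg f h
    rwa [map_mul, map_mul, map_inv, map_inv, hfx, hfy] at e2

end generic

variable {F : Type*} [Field F] [Fintype F] (p : ℕ) [Fact p.Prime] [CharP F p]

local notation "G2" => Matrix.ProjectiveSpecialLinearGroup (Fin 2) F
local notation "qq" => Fintype.card F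
local notation "dq" => Nat.gcd 2 (Fintype.card F - 1)

include p

theorem not_solPair_top (hq : 4 ≤ qq) {x y : G2} (h : SolPair x y) :
    Subgroup.closure ({x, y} : Set G2) ≠ ⊤ := by
  intro e
  unfold SolPair at h
  rw [e] at h
  exact G2_not_solvable hq (solvable_of_equiv Subgroup.topEquiv.symm h)

omit p [Fact p.Prime] [CharP F p] in
theorem tr_comm_of_borel {P : GL (Fin 2) F} {X Y : SL(2, F)} (hX : cjP P (proj X) ∈ borelP)
    (hY : cjP P (proj Y) ∈ borelP) : tr (X * Y * X⁻¹ * Y⁻¹) = 2 := by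
  rw [cjP_proj, proj_mem_borelP] at hX hY
  rw [← tr_cjSL P]
  simp only [map_mul, map_inv]
  generalize cjSL P X = A at hX ⊢
  generalize cjSL P Y = B at hY ⊢
  have hA := A.2
  have hB := B.2
  rw [Matrix.det_fin_two, hX, mul_zero, sub_zero] at hA
  rw [Matrix.det_fin_two, hY, mul_zero, sub_zero] at hB
  simp only [tr_def, Matrix.SpecialLinearGroup.coe_mul, Matrix.SpecialLinearGroup.coe_inv,
    Matrix.adjugate_fin_two]
  simp [Matrix.mul_apply, Fin.sum_univ_two, hX, hY]
  linear_combination (2 * (B 0 0 * B 1 1)) * hA + 2 * hB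

theorem a4_char_two_borel (hp : p = 2) {H : Subgroup G2} (e : H ≃* alternatingGroup (Fin 4)) :
    ∃ P : GL (Fin 2) F, H.map (cjP P).toMonoidHom ≤ borelP := by
  let a : alternatingGroup (Fin 4) :=
    ⟨Equiv.swap 0 1 * Equiv.swap 2 3, Equiv.Perm.mem_alternatingGroup.2 (by decide)⟩
  have ra : a * a = 1 ∧ a ≠ 1 := by decide
  have rc : ∀ h : alternatingGroup (Fin 4), h * a * h⁻¹ * a = a * (h * a * h⁻¹) := by decide
  set z : G2 := ((e.symm a : H) : G2)
  have hz1 : z ≠ 1 := fun h => ra.2 (e.symm.injective ((Subtype.ext h).trans (map_one _).symm))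
  have hzp : z ^ p = 1 := by
    rw [hp, sq]
    show (((e.symm a * e.symm a : H)) : G2) = 1
    rw [← map_mul, ra.1, map_one]; rfl
  obtain ⟨P, hP⟩ := exists_cjP_eq_transl p hz1 hzp
  refine ⟨P, ?_⟩
  rintro _ ⟨h, hh, rfl⟩
  have hc : Commute (h * z * h⁻¹) z := by
    have := congrArg (fun g : alternatingGroup (Fin 4) => ((e.symm g : H) : G2)) (rc (e ⟨h, hh⟩))
    simp only [map_mul, map_inv, MulEquiv.symm_apply_apply, Subgroup.coe_mul, Subgroup.coe_inv] at this
    exact this
  have hcomm : Commute (cjP P (h * z * h⁻¹)) (transl 1) := hP ▸ hc.map (cjP P).toMonoidHom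
  have hin := mem_tor_of_commute p (by rw [← hP, ← map_pow, hzp, map_one]) hcomm
  obtain ⟨s, hs⟩ := (tor_transl (one_ne_zero (α := F))).1 hin
  rw [map_mul, map_mul, map_inv, hP] at hs
  exact mem_borelP_of_conj one_ne_zero hs

theorem field_three_alt4 (hp : p = 3) (h24 : ¬ 24 ∣ Nat.card G2) {H : Subgroup G2} {K : Subfield F}
    (hK : Nat.card K = 3)
    (he : Nonempty (H ≃* Matrix.ProjGenLinGroup (Fin 2) K) ∨
      Nonempty (H ≃* Matrix.ProjectiveSpecialLinearGroup (Fin 2) K)) :
    Nonempty (H ≃* alternatingGroup (Fin 4)) := by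
  haveI : Fintype K := Fintype.ofFinite K
  rcases he with ⟨⟨e⟩⟩ | ⟨⟨e⟩⟩
  · exfalso
    apply h24
    have := H.card_subgroup_dvd_card
    rw [Nat.card_congr e.toEquiv, card_PGL2, ← Nat.card_eq_fintype_card, hK] at this
    exact this
  · exact ⟨e.trans (H37.PSL2_three_mulEquiv_alternating hK).some⟩

theorem sol_subfield (hG : Cfsg.IsMinimalSimple G2) {H : Subgroup G2} (hH : H ≠ ⊤) {K : Subfield F}
    (he : Nonempty (H ≃* Matrix.ProjGenLinGroup (Fin 2) K) ∨
      Nonempty (H ≃* Matrix.ProjectiveSpecialLinearGroup (Fin 2) K)) : Nat.card K = p ∧ p ≤ 3 := by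
  haveI : Fintype K := Fintype.ofFinite K
  have hsol := hG.2.2 H hH
  have hle : Nat.card K ≤ 3 := by
    by_contra hc
    rw [Nat.card_eq_fintype_card] at hc
    rcases he with ⟨⟨e⟩⟩ | ⟨⟨e⟩⟩
    · haveI := solvable_of_equiv e.symm hsol
      exact G2_not_solvable (F := K) (by omega)
        (Group.isSolvable_of_isSolvable_injective (f := Matrix.ProjectiveSpecialLinearGroup.toPGL)
          Matrix.ProjectiveSpecialLinearGroup.toPGL_injective)
    · exact G2_not_solvable (F := K) (by omega) (solvable_of_equiv e.symm hsol)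
  obtain ⟨a, ha, hKa⟩ := H42.subfield_card_eq_pow (p := p) K
  have h2 := (Fact.out : p.Prime).two_le
  have ha1 : a = 1 := by
    by_contra hne
    have : 2 ^ 2 ≤ p ^ a := le_trans (Nat.pow_le_pow_left h2 2) (Nat.pow_le_pow_right (by omega) (by omega))
    omega
  rw [ha1, pow_one] at hKa
  exact ⟨hKa, by omega⟩

/-- The semisimple case: the necessary condition. -/
theorem solPair_ss_cases (hG : Cfsg.IsMinimalSimple G2) (hq : 4 ≤ qq) (hp : p = 2 ∨ p = 3)
    (h24 : p = 3 → ¬ 24 ∣ Nat.card G2) {x y : G2} (hx : x ^ p ≠ 1) (hx2 : x * x ≠ 1)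
    (h : SolPair x y) :
    y ∈ Subgroup.normalizer (tor x : Set G2) ∨
      ∃ P : GL (Fin 2) F, cjP P x ∈ borelP ∧ cjP P y ∈ borelP := by
  have hx1 : x ≠ 1 := fun e => hx2 (by rw [e, one_mul])
  have hnorm : ∀ g : G2, (g * x * g⁻¹ = x ∨ g * x * g⁻¹ = x⁻¹) →
      g ∈ Subgroup.normalizer (tor x : Set G2) := by
    intro g hg
    have ht : tor (g * x * g⁻¹) = tor x := by
      rcases hg with e | e <;> rw [e]
      exact tor_eq_of_mem hx1 (inv_mem (self_mem_tor x)) (inv_ne_one.2 hx1)
    rw [tor_conj] at ht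
    rw [Subgroup.mem_normalizer_iff]
    intro z
    conv_rhs => rw [← ht, Subgroup.mem_map_equiv, MulAut.conj_symm_apply]
    simp [mul_assoc]
  have hcomm : Commute x y → y ∈ Subgroup.normalizer (tor x : Set G2) := fun hc =>
    hnorm y (Or.inl (by rw [← hc.eq, mul_inv_cancel_right]))
  obtain ⟨hxH, hyH⟩ := solPair_mem x y
  have hne := not_solPair_top p hq h
  set H := Subgroup.closure ({x, y} : Set G2)
  have hA4 : H ≃* alternatingGroup (Fin 4) →
      ∃ P : GL (Fin 2) F, cjP P x ∈ borelP ∧ cjP P y ∈ borelP := by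
    intro e
    rcases hp with hp | hp
    · obtain ⟨P, hP⟩ := a4_char_two_borel p hp e
      exact ⟨P, cjP_mem_of_le p hP hxH, cjP_mem_of_le p hP hyH⟩
    · exfalso
      rcases alt4_orders (e ⟨x, hxH⟩) with h' | h'
      · exact hx2 (by
          rw [← sq]; exact congrArg Subtype.val (e.injective (by rw [map_pow, h', map_one] : e (⟨x, hxH⟩ ^ 2) = e 1)))
      · exact hx (by
          rw [hp]; exact congrArg Subtype.val (e.injective (by rw [map_pow, h', map_one] : e (⟨x, hxH⟩ ^ 3) = e 1)))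
  have hsol := hG.2.2 H hne
  cases dickson p H with
  | cyclic hc hk =>
    left
    exact hcomm (congrArg Subtype.val (mul_comm' (⟨x, hxH⟩ : H) ⟨y, hyH⟩))
  | dihedral k e hk =>
    left
    rcases dihedral_cases e.some hxH hyH with h' | ⟨h', -⟩ | h'
    · exact hcomm h'
    · exact absurd h' hx2
    · exact hnorm y (Or.inr h')
  | borel P hle hz => exact Or.inr ⟨P, cjP_mem_of_le p hle hxH, cjP_mem_of_le p hle hyH⟩
  | a4 e => exact Or.inr (hA4 e.some)
  | s4 e =>
    exfalso
    have h16 := (exists_perm4_iff p (F := F)).1 ⟨H, e⟩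
    obtain ⟨n, -, hn⟩ := FiniteField.card F p
    rcases hp with hp | hp
    · have : qq % 2 = 0 := by rw [hn, hp, Nat.pow_mod]; simp
      have h2 : qq ^ 2 % 2 = 0 := by rw [Nat.pow_mod, this]
      omega
    · apply h24 hp
      have := H.card_subgroup_dvd_card
      rwa [Nat.card_congr e.some.toEquiv, Nat.card_perm, Nat.card_fin] at this
  | a5 e => exact absurd (solvable_of_equiv e.some.symm hsol) alt5_not_solvable
  | field P K hle he =>
    obtain ⟨hK, -⟩ := sol_subfield p hG hne he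
    rcases hp with hp | hp
    · left
      -- a group of order dividing six
      have hd : Nat.card H ∣ 6 := by
        haveI : Fintype K := Fintype.ofFinite K
        rcases he with ⟨⟨e⟩⟩ | ⟨⟨e⟩⟩
        · rw [Nat.card_congr e.toEquiv, card_PGL2, ← Nat.card_eq_fintype_card, hK, hp]
          norm_num
        · rw [Nat.card_congr e.toEquiv]
          refine (Dvd.intro_left _ (card_PSL2_mul (F := K))).trans ?_
          rw [← Nat.card_eq_fintype_card, hK, hp]
          norm_num
      set Z : Subgroup H := Subgroup.zpowers ⟨x, hxH⟩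
      have hpos : 0 < orderOf x := orderOf_pos x
      have ho3 : orderOf x = 3 ∨ orderOf x = 6 := by
        have h6 : orderOf x ∣ 6 := by
          rw [← Subgroup.orderOf_mk x hxH]; exact (orderOf_dvd_natCard _).trans hd
        have := Nat.le_of_dvd (by norm_num) h6
        have hn2 : ¬ orderOf x ∣ 2 := fun h => hx2 (by rw [← sq]; exact orderOf_dvd_iff_pow_eq_one.1 h)
        interval_cases orderOf x <;>
          first
          | (left; rfl)
          | (right; rfl)
          | (exfalso; revert h6 hn2; decide)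
      have hidx : Z.index ∣ 2 := by
        have h1 := Z.card_mul_index
        rw [Nat.card_zpowers, Subgroup.orderOf_mk] at h1
        rcases ho3 with e | e <;> rw [e] at h1 <;> rw [← h1] at hd
        · exact Nat.dvd_of_mul_dvd_mul_left (by norm_num) hd
        · exact (Nat.dvd_of_mul_dvd_mul_left (by norm_num) (hd.trans (dvd_of_eq (mul_one 6).symm))).trans
            (one_dvd 2)
      haveI : Z.Normal := by
        rcases (Nat.dvd_prime Nat.prime_two).1 hidx with h1 | h1
        · rw [Subgroup.index_eq_one.1 h1]; infer_instance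
        · exact Subgroup.normal_of_index_eq_two h1
      obtain ⟨i, hi⟩ := Subgroup.mem_zpowers_iff.1
        (Subgroup.Normal.conj_mem ‹Z.Normal› _ (Subgroup.mem_zpowers (⟨x, hxH⟩ : H)) ⟨y, hyH⟩)
      have hi' : x ^ i = y * x * y⁻¹ := congrArg Subtype.val hi
      have hmem : y * x * y⁻¹ ∈ tor x := hi' ▸ zpow_mem (self_mem_tor x) i
      have ht : tor (y * x * y⁻¹) = tor x :=
        tor_eq_of_mem hx1 hmem (fun e => hx1 (conj_eq_one_iff.1 e))
      rw [tor_conj] at ht
      rw [Subgroup.mem_normalizer_iff]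
      intro z
      conv_rhs => rw [← ht, Subgroup.mem_map_equiv, MulAut.conj_symm_apply]
      simp [mul_assoc]
    · exact Or.inr (hA4 (field_three_alt4 p hp (h24 hp) (hK.trans hp) he).some)

theorem borelP_normalizes_transl {y : G2} (hy : y ∈ borelP) :
    y ∈ Subgroup.normalizer (tor (transl (1 : F)) : Set G2) := by
  rw [normalizer_transl]; exact hy

theorem tor_transl_proper (hq : 4 ≤ qq) :
    tor (transl (1 : F)) ≠ ⊥ ∧ tor (transl (1 : F)) ≠ ⊤ := by
  constructor
  · intro h
    have := self_mem_tor (transl (1 : F))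
    rw [h, Subgroup.mem_bot] at this
    exact transl_ne_one one_ne_zero this
  · intro h
    have hc := card_tor_transl (F := F)
    rw [h, Subgroup.card_top] at hc
    have : qq * 1 < Nat.card G2 := by
      rw [card_G2_eq, mul_assoc]
      refine Nat.mul_lt_mul_of_pos_left ?_ (by omega)
      have hd : dq ≤ 2 := Nat.le_of_dvd two_pos (Nat.gcd_dvd_left _ _)
      have : 0 < (qq - 1) / dq := Nat.div_pos (by omega) (Nat.gcd_pos_of_pos_left _ two_pos)
      have := Nat.le_mul_of_pos_left (qq + 1) this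
      omega
    omega

/-- Pairs inside one Borel subgroup are solvable. -/
theorem solPair_borel (hG : Cfsg.IsMinimalSimple G2) (hq : 4 ≤ qq) {P : GL (Fin 2) F} {x y : G2}
    (hx : cjP P x ∈ borelP) (hy : cjP P y ∈ borelP) : SolPair x y := by
  rw [← solPair_map (cjP P)]
  exact solPair_of_normalizer hG (tor_transl_proper p hq).1 (tor_transl_proper p hq).2
    (borelP_normalizes_transl p hx) (borelP_normalizes_transl p hy)

theorem tor_proper (hq : 4 ≤ qq) {x : G2} (hx : x ^ p ≠ 1) : tor x ≠ ⊥ ∧ tor x ≠ ⊤ := by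
  constructor
  · intro h
    have := self_mem_tor x
    rw [h, Subgroup.mem_bot] at this
    exact hx (by rw [this, _root_.one_pow])
  · intro h
    haveI := tor_isCyclic p hx
    apply G2_not_solvable hq
    rw [h] at this
    haveI := this
    exact solvable_of_equiv Subgroup.topEquiv.symm
      (Group.isSolvable_of_comm fun a b => mul_comm' a b)

theorem solPair_normalizer (hG : Cfsg.IsMinimalSimple G2) (hq : 4 ≤ qq) {x y : G2} (hx : x ^ p ≠ 1)
    (hy : y ∈ Subgroup.normalizer (tor x : Set G2)) : SolPair x y :=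
  solPair_of_normalizer hG (tor_proper p hq hx).1 (tor_proper p hq hx).2
    (Subgroup.le_normalizer (self_mem_tor x)) hy

theorem ss_facts {x : G2} (hx1 : x ≠ 1) (hx2 : orderOf x ≠ 2) :
    x * x ≠ 1 := fun h => hx2 (orderOf_eq_prime (by rw [sq, h]) hx1)

theorem dvd_plus_ss {x : G2} (hx1 : x ≠ 1) (hx2 : orderOf x ≠ 2) (hx : orderOf x ∣ qq + 1) :
    x ^ p ≠ 1 ∧ Nat.card (tor x) = (qq + 1) / dq := by
  obtain ⟨hh, hM, hd, -, -, -⟩ := card_facts p (F := F)
  obtain ⟨n, hp, hn⟩ := FiniteField.card F p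
  have hq1 := Fintype.one_lt_card (α := F)
  have hxp : x ^ p ≠ 1 := by
    intro h
    have ho := orderOf_eq_prime h hx1
    rw [ho] at hx
    rw [Nat.dvd_add_right (hn ▸ dvd_pow_self p n.ne_zero)] at hx
    exact hp.not_dvd_one hx
  refine ⟨hxp, (tor_trichotomy p hxp).1.resolve_right fun h => ?_⟩
  have h1 : orderOf x ∣ qq - 1 :=
    ((Subgroup.orderOf_dvd_natCard _ (self_mem_tor x)).trans (dvd_of_eq h)).trans
      (Nat.div_dvd_of_dvd (Nat.gcd_dvd_right _ _))
  have h2 := Nat.dvd_sub hx h1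
  rw [show qq + 1 - (qq - 1) = 2 by omega] at h2
  rcases (Nat.dvd_prime Nat.prime_two).1 h2 with e | e
  · exact hx1 (orderOf_eq_one_iff.1 e)
  · exact hx2 e

/-- `x` of order dividing `q + 1`: the solubilizer is the torus normaliser. -/
theorem card_sol_plus (hG : Cfsg.IsMinimalSimple G2) (hq : 4 ≤ qq) (hp : p = 2 ∨ p = 3)
    (h24 : p = 3 → ¬ 24 ∣ Nat.card G2) {x : G2} (hx1 : x ≠ 1) (hx2 : orderOf x ≠ 2)
    (hx : orderOf x ∣ qq + 1) :
    Nat.card {y : G2 // SolPair x y} = 2 * ((qq + 1) / dq) := by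
  obtain ⟨hxp, hc⟩ := dvd_plus_ss p hx1 hx2 hx
  rw [← hc, ← (tor_trichotomy p hxp).2.1]
  refine Nat.card_congr (Equiv.subtypeEquivRight fun y => ⟨fun h => ?_, solPair_normalizer p hG hq hxp⟩)
  refine (solPair_ss_cases p hG hq hp h24 hxp (ss_facts p hx1 hx2) h).resolve_right ?_
  rintro ⟨P, hPx, -⟩
  have h1 : orderOf x ∣ qq * ((qq - 1) / dq) := by
    rw [← card_borelP, ← MulEquiv.orderOf_eq (cjP P) x]
    exact Subgroup.orderOf_dvd_natCard _ hPx
  have h3 : orderOf x ∣ (qq + 1) / dq := hc ▸ Subgroup.orderOf_dvd_natCard _ (self_mem_tor x)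
  have h4 := (coprime_q p (Or.inl h3)).dvd_of_dvd_mul_left h1
  exact hx1 (orderOf_eq_one_iff.1
    (Nat.eq_one_of_dvd_coprimes (coprime_halves qq (by omega)) h4 h3))

omit [Fintype F] p [Fact p.Prime] [CharP F p] in
theorem coe_diag_conj (a : Fˣ) (Y : SL(2, F)) :
    ((diagSL a * Y * (diagSL a)⁻¹ : SL(2, F)) : Matrix (Fin 2) (Fin 2) F) =
      !![Y 0 0, (a : F) ^ 2 * Y 0 1; ((a : F) ^ 2)⁻¹ * Y 1 0, Y 1 1] := by
  have ha := a.ne_zero
  rw [Matrix.SpecialLinearGroup.coe_mul, Matrix.SpecialLinearGroup.coe_mul,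
    Matrix.SpecialLinearGroup.coe_inv, Matrix.adjugate_fin_two]
  show !![(a : F), 0; 0, ((a⁻¹ : Fˣ) : F)] * (Y : Matrix (Fin 2) (Fin 2) F) *
    !![((a⁻¹ : Fˣ) : F), -0; -0, (a : F)] = _
  rw [Units.val_inv_eq_inv_val]
  ext i j
  fin_cases i <;> fin_cases j <;> simp [Matrix.mul_apply, Matrix.vecMul, dotProduct, Fin.sum_univ_two] <;> field_simp

omit [Fintype F] p [Fact p.Prime] [CharP F p] in
theorem tr_comm_diag (a : Fˣ) (Y : SL(2, F)) :
    tr (diagSL a * Y * (diagSL a)⁻¹ * Y⁻¹) =
      2 - ((a : F) - (a : F)⁻¹) ^ 2 * (Y 0 1 * Y 1 0) := by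
  have hY := Y.2
  rw [Matrix.det_fin_two] at hY
  have ha := a.ne_zero
  rw [tr, Matrix.SpecialLinearGroup.coe_mul, coe_diag_conj, Matrix.SpecialLinearGroup.coe_inv,
    Matrix.adjugate_fin_two, Matrix.trace_fin_two]
  simp [Matrix.mul_apply, Fin.sum_univ_two]
  field_simp
  linear_combination (2 * (a : F) ^ 2) * hY

end H39
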