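import Mathlib
import Cfsg.Agent.H39.Solubilizer

/-!
Unipotent elements and Borel subgroups; the solubilizer of an involution of `PSL₂(2^r)`.
-/

set_option autoImplicit false
set_option maxHeartbeats 800000

namespace H39

open Matrix
open scoped MatrixGroups

variable {F : Type*} [Field F] [Fintype F] (p : ℕ) [Fact p.Prime] [CharP F p]

local notation "G2" => Matrix.ProjectiveSpecialLinearGroup (Fin 2) F
local notation "qq" => Fintype.card F
local notation "dq" => Nat.gcd 2 (Fintype.card F - 1)

include p

omit [Fintype F] in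
theorem transl_pow_char (t : F) : transl t ^ p = 1 := by
  rw [transl, ← map_pow, pow_char_eq_one_of_tr_eq_two p _ (by simp [tr_def]; norm_num), map_one]

omit [Fintype F] in
/-- The `p`-elements of the Borel subgroup are the translations. -/
theorem borelP_pow_char {z : G2} (hz : z ∈ borelP) (h : z ^ p = 1) : ∃ s, z = transl s := by
  have h1 : (multHom (F := F)) ⟨z, hz⟩ ^ p = 1 := by
    rw [← map_pow, ← map_one (multHom (F := F))]
    exact congrArg _ (Subtype.ext h)
  have h2 : mult z = 1 := by
    refine frobenius_inj F p ?_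
    rw [frobenius_def, frobenius_def, _root_.one_pow]
    simpa [multHom] using congrArg Units.val h1
  exact ⟨_, eq_transl_of_mult_one hz h2⟩

theorem mem_borelP_of_pair {P : GL (Fin 2) F} {y : G2} (hx : cjP P (transl 1) ∈ borelP)
    (hy : cjP P y ∈ borelP) : y ∈ borelP := by
  obtain ⟨s, hs⟩ := borelP_pow_char p hx (by rw [← map_pow, transl_pow_char, map_one])
  have hc : Commute (y * transl 1 * y⁻¹) (transl (1 : F)) := by
    show _ = _
    apply (cjP P).injective
    rw [map_mul (cjP P) (y * transl 1 * y⁻¹), map_mul (cjP P) (transl 1), map_mul (cjP P) (y * transl 1),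
      map_mul (cjP P) y, map_inv, hs, conj_transl hy, transl_mul, transl_mul, add_comm]
  obtain ⟨u, hu⟩ := (tor_transl (one_ne_zero (α := F))).1
    (mem_tor_of_commute p (transl_pow_char p 1) hc)
  exact mem_borelP_of_conj one_ne_zero hu

theorem commute_mem_borelP {y : G2} (h : Commute y (transl 1)) : y ∈ borelP := by
  obtain ⟨u, rfl⟩ := (tor_transl (one_ne_zero (α := F))).1 (mem_tor_of_commute p (transl_pow_char p 1) h)
  exact transl_mem_borelP u

omit p [Fact p.Prime] [CharP F p] in
theorem tr_upSL_mul (Y : SL(2, F)) (t : F) : tr (upSL t * Y) = tr Y + t * Y 1 0 := by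
  simp [tr_def, Matrix.mul_apply, Fin.sum_univ_two]
  ring

theorem subfield_prime_mem {K : Subfield F} (hK : Nat.card K = p) (hp : p = 2 ∨ p = 3) {v : F}
    (hv : v ∈ K) : v = 0 ∨ v = 1 ∨ v = -1 := by
  have h := (H42.subfield_mem_iff_pow K).1 hv
  rw [hK] at h
  rcases hp with hp | hp <;> rw [hp] at h
  · have : v * (v - 1) = 0 := by linear_combination h
    rcases mul_eq_zero.1 this with e | e
    · exact Or.inl e
    · exact Or.inr (Or.inl (sub_eq_zero.1 e))
  · have : v * ((v - 1) * (v + 1)) = 0 := by linear_combination h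
    rcases mul_eq_zero.1 this with e | e
    · exact Or.inl e
    · rcases mul_eq_zero.1 e with e | e
      · exact Or.inr (Or.inl (sub_eq_zero.1 e))
      · exact Or.inr (Or.inr (eq_neg_of_add_eq_zero_left e))

theorem solPair_unipotent_two (hG : Cfsg.IsMinimalSimple G2) (hq : 4 ≤ qq) (hp : p = 2) (y : G2) :
    SolPair (transl 1) y ↔ y ∈ borelP ∨ orderOf y = 2 ∨ orderOf (transl 1 * y) = 2 := by
  have hxx : transl (1 : F) * transl 1 = 1 := by rw [← sq]; exact hp ▸ transl_pow_char p (1 : F)
  have ord2 : ∀ g : G2, g * g = 1 → g = 1 ∨ orderOf g = 2 := fun g hg =>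
    or_iff_not_imp_left.2 fun h => orderOf_eq_prime (by rw [sq, hg]) h
  constructor
  · intro h
    obtain ⟨hxH, hyH⟩ := solPair_mem (transl (1 : F)) y
    have hne := not_solPair_top p hq h
    set H := Subgroup.closure ({transl 1, y} : Set G2)
    have hsol := hG.2.2 H hne
    have hA : ∀ P : GL (Fin 2) F, H.map (cjP P).toMonoidHom ≤ borelP → y ∈ borelP := fun P hle =>
      mem_borelP_of_pair p (cjP_mem_of_le p hle hxH) (cjP_mem_of_le p hle hyH)
    cases dickson p H with
    | cyclic hc hk =>
      exact Or.inl (commute_mem_borelP p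
        (congrArg Subtype.val (mul_comm' (⟨y, hyH⟩ : H) ⟨transl 1, hxH⟩)))
    | dihedral k e hk =>
      rcases dihedral_cases e.some hxH hyH with h' | ⟨-, h' | h'⟩ | h'
      · exact Or.inl (commute_mem_borelP p h'.symm)
      · rcases ord2 y h' with e | e
        · exact Or.inl (e ▸ one_mem _)
        · exact Or.inr (Or.inl e)
      · rcases ord2 _ h' with e | e
        · refine Or.inl ?_
          rw [← inv_eq_of_mul_eq_one_right e]
          exact inv_mem (transl_mem_borelP 1)
        · exact Or.inr (Or.inr e)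
      · refine Or.inl (commute_mem_borelP p ?_)
        rw [inv_eq_of_mul_eq_one_right hxx] at h'
        exact mul_inv_eq_iff_eq_mul.1 h'
    | borel P hle hz => exact Or.inl (hA P hle)
    | a4 e =>
      obtain ⟨P, hP⟩ := a4_char_two_borel p hp e.some
      exact Or.inl (hA P hP)
    | s4 e =>
      exfalso
      have h16 := (exists_perm4_iff p (F := F)).1 ⟨H, e⟩
      obtain ⟨n, -, hn⟩ := FiniteField.card F p
      have : qq % 2 = 0 := by rw [hn, hp, Nat.pow_mod]; simp
      have h2 : qq ^ 2 % 2 = 0 := by rw [Nat.pow_mod, this]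
      omega
    | a5 e => exact absurd (solvable_of_equiv e.some.symm hsol) alt5_not_solvable
    | field P K hle he =>
      obtain ⟨hK, -⟩ := sol_subfield p hG hne he
      have h2 : (2 : F) = 0 := by
        have := CharP.cast_eq_zero F p
        rw [hp] at this; exact_mod_cast this
      have key : ∀ g : SL(2, F), proj g ∈ H → tr g = 0 ∨ tr g = 1 := by
        intro g hg
        have h1 := cjP_mem_of_le p hle hg
        rw [cjP_proj] at h1
        have h3 := tr_sq_mem h1
        rw [tr_cjSL] at h3
        rcases subfield_prime_mem p hK (Or.inl hp) h3 with e | e | e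
        · exact Or.inl ((pow_eq_zero_iff two_ne_zero).1 e)
        · refine Or.inr ?_
          have : (tr g - 1) ^ 2 = 0 := by linear_combination e + (1 - tr g) * h2
          exact sub_eq_zero.1 ((pow_eq_zero_iff two_ne_zero).1 this)
        · refine Or.inr ?_
          have : (tr g - 1) ^ 2 = 0 := by linear_combination e - tr g * h2
          exact sub_eq_zero.1 ((pow_eq_zero_iff two_ne_zero).1 this)
      obtain ⟨Y, rfl⟩ := proj_surjective y
      have hsq : ∀ g : SL(2, F), tr g = 0 → proj g * proj g = 1 := fun g hg => by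
        rw [← map_mul, ← sq, pow_two_eq_neg_one_of_tr hg, proj_neg, map_one]
      have hXY : transl 1 * proj Y = proj (upSL 1 * Y) := by rw [transl, map_mul]
      rcases key Y hyH with e | e
      · rcases ord2 _ (hsq Y e) with e' | e'
        · exact Or.inl (e' ▸ one_mem _)
        · exact Or.inr (Or.inl e')
      · rcases key (upSL 1 * Y) (by rw [map_mul]; exact mul_mem hxH hyH) with e' | e'
        · rcases ord2 _ (hsq _ e') with e'' | e''
          · refine Or.inl ?_
            rw [← hXY] at e''
            rw [← inv_eq_of_mul_eq_one_right e'']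
            exact inv_mem (transl_mem_borelP 1)
          · exact Or.inr (Or.inr (by rw [hXY]; exact e''))
        · refine Or.inl (proj_mem_borelP.2 ?_)
          rw [tr_upSL_mul, e, one_mul] at e'
          linear_combination e'
  · rintro (h | h | h)
    · exact solPair_of_normalizer hG (tor_transl_proper p hq).1 (tor_transl_proper p hq).2
        (borelP_normalizes_transl p (transl_mem_borelP 1)) (borelP_normalizes_transl p h)
    · exact solPair_dihedral hG hxx (Or.inl (by rw [← sq]; exact orderOf_dvd_iff_pow_eq_one.1 (dvd_of_eq h)))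
    · exact solPair_dihedral hG hxx (Or.inr (by rw [← sq]; exact orderOf_dvd_iff_pow_eq_one.1 (dvd_of_eq h)))

theorem centralizer_transl :
    Subgroup.centralizer ({transl (1 : F)} : Set G2) = tor (transl 1) := by
  ext g
  rw [Subgroup.mem_centralizer_singleton_iff]
  exact ⟨fun h => mem_tor_of_commute p (transl_pow_char p 1) h,
    fun h => (tor_comm (transl_ne_one one_ne_zero) h (self_mem_tor _)).eq⟩

theorem card_sol_unipotent_two (hG : Cfsg.IsMinimalSimple G2) (hq : 4 ≤ qq) (hp : p = 2) :
    Nat.card {y : G2 // SolPair (transl 1) y} = 3 * qq * (qq - 1) := by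
  classical
  haveI : Fintype G2 := Fintype.ofFinite _
  have hd : dq = 1 := by
    refine Nat.coprime_two_left.2 ?_
    obtain ⟨n, -, hn⟩ := FiniteField.card F p
    have : qq % 2 = 0 := by rw [hn, hp, Nat.pow_mod]; simp
    rw [Nat.odd_iff]; omega
  have hxx : transl (1 : F) * transl 1 = 1 := by rw [← sq]; exact hp ▸ transl_pow_char p (1 : F)
  have hx2 : orderOf (transl (1 : F)) = 2 :=
    orderOf_eq_prime (by rw [sq, hxx]) (transl_ne_one one_ne_zero)
  set B : Finset G2 := ((borelP : Subgroup G2) : Set G2).toFinset with hB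
  set I : Finset G2 := Finset.univ.filter fun y => orderOf y = 2 with hI
  set xI : Finset G2 := I.image (transl 1 * ·) with hxI
  have hset : (Finset.univ.filter fun y : G2 => SolPair (transl 1) y) = B ∪ I ∪ xI := by
    ext y
    simp only [Finset.mem_filter, Finset.mem_univ, true_and, Finset.mem_union, solPair_unipotent_two p hG hq hp,
      B, I, xI, Set.mem_toFinset, SetLike.mem_coe, Finset.mem_image, or_assoc]
    refine or_congr Iff.rfl (or_congr Iff.rfl ⟨fun h => ⟨_, h, by rw [← mul_assoc, hxx, one_mul]⟩, ?_⟩)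
    rintro ⟨v, hv, rfl⟩
    rwa [← mul_assoc, hxx, one_mul]
  have cB : B.card = qq * (qq - 1) := by
    rw [hB, ← Nat.card_eq_card_toFinset]
    simp only [SetLike.coe_sort_coe]
    rw [card_borelP, hd, Nat.div_one]
  have cI : I.card = qq ^ 2 - 1 := by
    have h1 := H40.card_class_mul (transl (1 : F))
    have hiff : ∀ v : G2, v ∈ (ConjClasses.mk (transl (1 : F))).carrier ↔ orderOf v = 2 := by
      intro v
      rw [ConjClasses.mem_carrier_iff_mk_eq, ConjClasses.mk_eq_mk_iff_isConj]
      refine ⟨fun h => ?_, fun h => invol_isConj p h hx2⟩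
      obtain ⟨g, rfl⟩ := isConj_iff.1 h.symm
      exact invol_conj_orderOf hx2 g
    rw [Nat.card_congr (Equiv.subtypeEquivRight hiff), centralizer_transl p, card_tor_transl,
      card_G2_eq, hd, Nat.div_one, Nat.card_eq_fintype_card, Fintype.card_subtype] at h1
    refine Nat.eq_of_mul_eq_mul_right (show 0 < qq by omega) (h1.trans ?_)
    have h2 := Nat.sq_sub_sq qq 1
    rw [_root_.one_pow] at h2
    rw [h2]; ring
  have cxI : xI.card = qq ^ 2 - 1 := by
    rw [hxI, Finset.card_image_of_injective _ (mul_right_injective _), cI]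
  have hIB : ∀ v, v ∈ B ∩ I ↔ v ∈ (Finset.univ.erase (0 : F)).image transl := by
    intro v
    simp only [B, I, Finset.mem_inter, Set.mem_toFinset, SetLike.mem_coe, Finset.mem_filter,
      Finset.mem_univ, true_and, Finset.mem_image, Finset.mem_erase, and_true]
    constructor
    · rintro ⟨h1, h2⟩
      obtain ⟨s, rfl⟩ := borelP_pow_char p h1 (by rw [hp]; exact orderOf_dvd_iff_pow_eq_one.1 (dvd_of_eq h2))
      exact ⟨s, fun e => by rw [e, transl_zero, orderOf_one] at h2; omega, rfl⟩
    · rintro ⟨s, hs, rfl⟩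
      exact ⟨transl_mem_borelP s, orderOf_eq_prime (hp ▸ transl_pow_char p s) (transl_ne_one hs)⟩
  have cBI : (B ∩ I).card = qq - 1 := by
    rw [Finset.ext hIB, Finset.card_image_of_injective _ transl_injective, Finset.card_erase_of_mem
      (Finset.mem_univ _), Finset.card_univ]
  have hBxI : B ∩ xI = (B ∩ I).image (transl 1 * ·) := by
    ext v
    simp only [Finset.mem_inter, Finset.mem_image, xI, B, Set.mem_toFinset, SetLike.mem_coe]
    constructor
    · rintro ⟨h1, w, hw, rfl⟩
      refine ⟨w, ⟨?_, hw⟩, rfl⟩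
      simpa using mul_mem (inv_mem (transl_mem_borelP (1 : F))) h1
    · rintro ⟨w, ⟨h1, hw⟩, rfl⟩
      exact ⟨mul_mem (transl_mem_borelP 1) h1, w, hw, rfl⟩
  have cBxI : (B ∩ xI).card = qq - 1 := by
    rw [hBxI, Finset.card_image_of_injective _ (mul_right_injective _), cBI]
  have hIxI : I ∩ xI ⊆ B := by
    intro v hv
    simp only [Finset.mem_inter, I, xI, B, Finset.mem_filter, Finset.mem_univ, true_and,
      Finset.mem_image, Set.mem_toFinset, SetLike.mem_coe] at hv ⊢
    obtain ⟨h1, w, hw, rfl⟩ := hv
    refine mul_mem (transl_mem_borelP 1) (commute_mem_borelP p ?_)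
    have h2 : (transl 1 * w) * (transl 1 * w) = 1 := by
      rw [← sq]; exact orderOf_dvd_iff_pow_eq_one.1 (dvd_of_eq h1)
    have hw2 : w * w = 1 := by rw [← sq]; exact orderOf_dvd_iff_pow_eq_one.1 (dvd_of_eq hw)
    have := inv_eq_of_mul_eq_one_right h2
    rw [_root_.mul_inv_rev, inv_eq_of_mul_eq_one_right hw2, inv_eq_of_mul_eq_one_right hxx] at this
    exact this
  have h1 := Finset.card_union_add_card_inter B I
  have h2 := Finset.card_union_add_card_inter (B ∪ I) xI
  have h3 : (B ∪ I) ∩ xI = B ∩ xI := by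
    ext v
    simp only [Finset.mem_inter, Finset.mem_union]
    exact ⟨fun ⟨h, hx⟩ => ⟨h.elim id fun hI => hIxI (Finset.mem_inter.2 ⟨hI, hx⟩), hx⟩,
      fun ⟨h, hx⟩ => ⟨Or.inl h, hx⟩⟩
  rw [h3, cBxI, cxI] at h2
  rw [cBI, cB, cI] at h1
  rw [Nat.card_eq_fintype_card, Fintype.card_subtype, hset]
  have e1 : qq * (qq - 1) + qq = qq ^ 2 := by
    rw [sq, Nat.mul_sub, Nat.mul_one, Nat.sub_add_cancel (Nat.le_mul_self qq)]
  rw [mul_assoc]
  omega

end H39
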