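import Mathlib
import Cfsg.Agent.H39.SolubilizerUnipotent

/-!
Solubilizers of involutions and of elements of order three in `PSL₂(3^r)`, `r` odd.
-/

set_option autoImplicit false
set_option maxHeartbeats 800000

namespace H39

open Matrix
open scoped MatrixGroups

theorem alt4_pairs : ∀ a b : alternatingGroup (Fin 4), a * a = 1 → a ≠ 1 →
    b * b = 1 ∨ (a * b) * (a * b) = 1 ∨ (b ^ 3 = 1 ∧ (a * b) ^ 3 = 1) := by
  decide +kernel

theorem alt4_fibre : ∀ a b : alternatingGroup (Fin 4), a * a = 1 → a ≠ 1 → b * b = 1 → b ≠ 1 → a ≠ b →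
    (Finset.univ.filter fun g : alternatingGroup (Fin 4) => g * a * g⁻¹ = b).card = 4 ∧
      ∀ g : alternatingGroup (Fin 4), g * a * g⁻¹ = b → g ^ 3 = 1 ∧ (a * g) ^ 3 = 1 ∧ g ≠ 1 := by
  decide +kernel

section generic

variable {G : Type*} [Group G]

theorem klein_of_rel {x y : G} (hx : x * x = 1) (hy : y ^ 3 = 1) (hxy : (x * y) ^ 3 = 1) :
    y * (y * x * y⁻¹) * y⁻¹ = x * (y * x * y⁻¹) ∧ Commute x (y * x * y⁻¹) := by
  have hxi : x⁻¹ = x := inv_eq_of_mul_eq_one_right hx
  have h3 : x * y * x * (y * x * y) = 1 := by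
    rw [← hxy]; simp [pow_succ, mul_assoc]
  have h4 : x * y * x = y⁻¹ * x * y⁻¹ := by
    rw [eq_inv_of_mul_eq_one_left h3]; simp [hxi, mul_assoc]
  have hyy : y⁻¹ * y⁻¹ = y := by
    have h : y * y * y = 1 := by rw [← hy]; simp [pow_succ, mul_assoc]
    have h' := inv_eq_of_mul_eq_one_right h
    rw [_root_.mul_inv_rev] at h'
    exact h'
  have hyy' : y * y = y⁻¹ := eq_inv_of_mul_eq_one_left (by rw [← hy]; simp [pow_succ, mul_assoc])
  have hxs : x * (y * x * y⁻¹) = y⁻¹ * x * y := by
    rw [show x * (y * x * y⁻¹) = x * y * x * y⁻¹ by simp [mul_assoc], h4, mul_assoc, hyy]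
  constructor
  · rw [hxs, show y * (y * x * y⁻¹) * y⁻¹ = (y * y) * x * (y⁻¹ * y⁻¹) by simp [mul_assoc], hyy', hyy]
  · show x * (y * x * y⁻¹) = y * x * y⁻¹ * x
    have h5 : y * x * y⁻¹ * x = (x * (y * x * y⁻¹))⁻¹ := by simp [hxi, mul_assoc]
    rw [h5, hxs]
    simp [hxi, mul_assoc]

end generic

variable {F : Type*} [Field F] [Fintype F]

local notation "G2" => Matrix.ProjectiveSpecialLinearGroup (Fin 2) F
local notation "qq" => Fintype.card F
local notation "dq" => Nat.gcd 2 (Fintype.card F - 1)
local notation "mq" => evenHalf (Fintype.card F)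

variable [Fact (Nat.Prime 3)] [CharP F 3]

theorem three_facts (h8 : qq % 8 = 3) :
    Odd qq ∧ dq = 2 ∧ mq = (qq + 1) / 2 ∧ ¬ 4 ∣ mq ∧ ¬ 24 ∣ Nat.card G2 ∧
      Nat.card G2 = qq * ((qq - 1) / 2) * (qq + 1) := by
  have hodd : Odd qq := Nat.odd_iff.2 (by omega)
  have hd := gcd_eq_two hodd
  have hm : mq = (qq + 1) / 2 := by rw [evenHalf, if_neg (by omega)]
  have hG := card_G2_eq (F := F)
  rw [hd] at hG
  refine ⟨hodd, hd, hm, by rw [hm]; omega, fun h => ?_, hG⟩
  rw [hG] at h
  have hcop : Nat.Coprime 8 (qq * ((qq - 1) / 2)) := by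
    rw [show (8 : ℕ) = 2 ^ 3 by norm_num]
    refine Nat.Coprime.pow_left _ (Nat.Coprime.mul_right ?_ ?_) <;>
      exact Nat.coprime_two_left.2 (Nat.odd_iff.2 (by omega))
  have := hcop.dvd_of_dvd_mul_left ((show 8 ∣ 24 by norm_num).trans h)
  omega

theorem borel_no_invol (h8 : qq % 8 = 3) {P : GL (Fin 2) F} {x : G2} (hx : orderOf x = 2)
    (hP : cjP P x ∈ borelP) : False := by
  obtain ⟨hodd, hd, -⟩ := three_facts (F := F) h8
  have h1 := Subgroup.orderOf_dvd_natCard _ hP
  rw [MulEquiv.orderOf_eq, hx, card_borelP, hd] at h1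
  rcases (Nat.Prime.dvd_mul Nat.prime_two).1 h1 with h | h <;> omega

theorem solPair_invol_three (hG : Cfsg.IsMinimalSimple G2) (hq : 4 ≤ qq) (h8 : qq % 8 = 3) {x : G2}
    (hx : orderOf x = 2) (y : G2) :
    SolPair x y ↔ (orderOf y = 2 ∨ orderOf (x * y) = 2) ∨ y ∈ tor x ∨
      (y ^ 3 = 1 ∧ (x * y) ^ 3 = 1 ∧ y ≠ 1) := by
  obtain ⟨hodd, hd, hm, h4, h24, -⟩ := three_facts (F := F) h8
  have hxx : x * x = 1 := mul_self_of_orderOf_two hx
  have hx1 : x ≠ 1 := orderOf_ne_one hx
  have ord2 : ∀ g : G2, g * g = 1 → g = 1 ∨ orderOf g = 2 := fun g hg =>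
    or_iff_not_imp_left.2 fun h => orderOf_eq_prime (by rw [sq, hg]) h
  constructor
  · intro h
    obtain ⟨hxH, hyH⟩ := solPair_mem x y
    have hne := not_solPair_top 3 hq h
    set H := Subgroup.closure ({x, y} : Set G2)
    have hsol := hG.2.2 H hne
    have hinvol : y * y = 1 ∨ (x * y) * (x * y) = 1 →
        (orderOf y = 2 ∨ orderOf (x * y) = 2) ∨ y ∈ tor x ∨ (y ^ 3 = 1 ∧ (x * y) ^ 3 = 1 ∧ y ≠ 1) := by
      rintro (h' | h')
      · rcases ord2 y h' with e | e
        · exact Or.inr (Or.inl (e ▸ one_mem _))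
        · exact Or.inl (Or.inl e)
      · rcases ord2 _ h' with e | e
        · refine Or.inr (Or.inl ?_)
          rw [← inv_eq_of_mul_eq_one_right e]
          exact inv_mem (self_mem_tor x)
        · exact Or.inl (Or.inr e)
    have hcomm : Commute y x →
        (orderOf y = 2 ∨ orderOf (x * y) = 2) ∨ y ∈ tor x ∨ (y ^ 3 = 1 ∧ (x * y) ^ 3 = 1 ∧ y ≠ 1) := by
      intro hc
      by_cases hyT : y ∈ tor x
      · exact Or.inr (Or.inl hyT)
      · have hN : y ∈ Subgroup.normalizer (tor x : Set G2) := by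
          rw [← centralizer_invol 3 hodd hx, Subgroup.mem_centralizer_singleton_iff]; exact hc.eq
        obtain ⟨h2, h1, -⟩ := normalizer_outside 3 (invol_ss 3 hodd hx) hN hyT
        exact Or.inl (Or.inl (orderOf_eq_prime h2 h1))
    have hA4 : H ≃* alternatingGroup (Fin 4) →
        (orderOf y = 2 ∨ orderOf (x * y) = 2) ∨ y ∈ tor x ∨ (y ^ 3 = 1 ∧ (x * y) ^ 3 = 1 ∧ y ≠ 1) := by
      intro e
      have hxy : e (⟨x, hxH⟩ * ⟨y, hyH⟩) = e ⟨x, hxH⟩ * e ⟨y, hyH⟩ := map_mul e _ _
      have back : ∀ (g : H) (n : ℕ), (e g) ^ n = 1 → (g : G2) ^ n = 1 := fun g n hg =>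
        congrArg Subtype.val (e.injective (by rw [map_pow, hg, map_one] : e (g ^ n) = e 1))
      rcases alt4_pairs (e ⟨x, hxH⟩) (e ⟨y, hyH⟩)
          (by rw [← map_mul, ← map_one e]; exact congrArg e (Subtype.ext hxx))
          (fun h => hx1 (congrArg Subtype.val (e.injective (h.trans (map_one e).symm)))) with h' | h' | ⟨h', h''⟩
      · exact hinvol (Or.inl (by rw [← sq]; exact back ⟨y, hyH⟩ 2 (by rw [sq]; exact h')))
      · refine hinvol (Or.inr ?_)
        rw [← hxy] at h'
        rw [← sq]
        exact back (⟨x, hxH⟩ * ⟨y, hyH⟩) 2 (by rw [sq]; exact h')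
      · by_cases hy1 : y = 1
        · exact Or.inr (Or.inl (hy1 ▸ one_mem _))
        rw [← hxy] at h''
        exact Or.inr (Or.inr ⟨back ⟨y, hyH⟩ 3 h', back (⟨x, hxH⟩ * ⟨y, hyH⟩) 3 h'', hy1⟩)
    cases dickson 3 H with
    | cyclic hc hk =>
      exact hcomm (congrArg Subtype.val (mul_comm' (⟨y, hyH⟩ : H) ⟨x, hxH⟩))
    | dihedral k e hk =>
      rcases dihedral_cases e.some hxH hyH with h' | ⟨-, h'⟩ | h'
      · exact hcomm h'.symm
      · exact hinvol h'
      · rw [inv_eq_of_mul_eq_one_right hxx] at h'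
        exact hcomm (mul_inv_eq_iff_eq_mul.1 h')
    | borel P hle hz => exact (borel_no_invol h8 hx (cjP_mem_of_le 3 hle hxH)).elim
    | a4 e => exact hA4 e.some
    | s4 e =>
      exfalso
      apply h24
      have := H.card_subgroup_dvd_card
      rwa [Nat.card_congr e.some.toEquiv, Nat.card_perm, Nat.card_fin] at this
    | a5 e => exact absurd (solvable_of_equiv e.some.symm hsol) alt5_not_solvable
    | field P K hle he =>
      exact hA4 (field_three_alt4 3 rfl h24 (sol_subfield 3 hG hne he).1 he).some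
  · rintro ((h | h) | h | ⟨hy3, hxy3, hy1⟩)
    · exact solPair_dihedral hG hxx (Or.inl (mul_self_of_orderOf_two h))
    · exact solPair_dihedral hG hxx (Or.inr (mul_self_of_orderOf_two h))
    · exact solPair_of_commute (tor_comm hx1 (self_mem_tor x) h)
    · obtain ⟨hys, hcx⟩ := klein_of_rel hxx hy3 hxy3
      set s := y * x * y⁻¹ with hs
      have os : orderOf s = 2 := invol_conj_orderOf hx y
      have hne : x ≠ s := by
        intro e
        have hc : Commute x y := (mul_inv_eq_iff_eq_mul.1 e.symm).symm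
        rw [hc.mul_pow, hy3, mul_one, pow_succ, sq, hxx, one_mul] at hxy3
        exact hx1 hxy3
      set V := fourGroup (mul_self_of_orderOf_two hx) (mul_self_of_orderOf_two os) hcx
      have hV : IsKleinFour V := fourGroup_isKleinFour hx os hcx hne
      have hss := mul_self_of_orderOf_two os
      have key : ∀ z ∈ V, y * z * y⁻¹ ∈ V := by
        intro z hz
        rcases mem_fourGroup.1 hz with rfl | rfl | rfl | rfl
        · simp
        · exact mem_fourGroup.2 (Or.inr (Or.inr (Or.inl hs.symm)))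
        · exact mem_fourGroup.2 (Or.inr (Or.inr (Or.inr hys)))
        · refine mem_fourGroup.2 (Or.inr (Or.inl ?_))
          rw [show y * (x * s) * y⁻¹ = (y * x * y⁻¹) * (y * s * y⁻¹) by simp [mul_assoc], hys, ← hs,
            ← mul_assoc, ← hcx.eq, mul_assoc, hss, mul_one]
      have hyN : y ∈ Subgroup.normalizer (V : Set G2) := by
        rw [Subgroup.mem_normalizer_iff]
        intro z
        refine ⟨key z, fun h => ?_⟩
        have h3 := key _ (key _ h)
        rwa [show y * (y * (y * z * y⁻¹) * y⁻¹) * y⁻¹ = y ^ 3 * z * (y ^ 3)⁻¹ by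
          simp [pow_succ, mul_assoc], hy3, _root_.inv_one, one_mul, mul_one] at h3
      refine solPair_of_normalizer hG (Z := V) ?_ ?_
        (Subgroup.le_normalizer (mem_fourGroup.2 (Or.inr (Or.inl rfl)))) hyN
      · intro e
        have := hV.card_four
        rw [e, Subgroup.card_bot] at this
        omega
      · intro e
        have := hV.card_four
        rw [e, Subgroup.card_top] at this
        obtain ⟨-, -, -, -, -, hc⟩ := three_facts (F := F) h8
        rw [hc] at this
        have : 1 * 1 * 5 ≤ qq * ((qq - 1) / 2) * (qq + 1) :=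
          Nat.mul_le_mul (Nat.mul_le_mul (by omega) (by omega)) (by omega)
        omega

/-- The pairs generating an `A₄`. -/
theorem card_alt4_pairs (h8 : qq % 8 = 3) {x : G2} (hx : orderOf x = 2) :
    Nat.card {y : G2 // y ^ 3 = 1 ∧ (x * y) ^ 3 = 1 ∧ y ≠ 1} = 4 * mq := by
  classical
  haveI : Fintype G2 := Fintype.ofFinite _
  obtain ⟨hodd, hd, hm, h4, h24, -⟩ := three_facts (F := F) h8
  have hxx : x * x = 1 := mul_self_of_orderOf_two hx
  have hx1 : x ≠ 1 := orderOf_ne_one hx
  rw [← card_commuting 3 hodd hx, Nat.card_eq_fintype_card, Nat.card_eq_fintype_card,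
    Fintype.card_subtype, Fintype.card_subtype,
    Finset.card_eq_sum_card_fiberwise (f := fun y : G2 => y * x * y⁻¹)
      (t := Finset.univ.filter fun v : G2 => orderOf v = 2 ∧ Commute v x ∧ v ≠ x) ?_,
    Finset.sum_congr rfl (g := fun _ => 4), Finset.sum_const, smul_eq_mul, mul_comm]
  · intro s hs
    simp only [Finset.mem_filter, Finset.mem_univ, true_and] at hs
    obtain ⟨os, hcs, hne⟩ := hs
    set V := fourGroup (mul_self_of_orderOf_two hx) (mul_self_of_orderOf_two os) hcs.symm
    have hV : IsKleinFour V := fourGroup_isKleinFour hx os hcs.symm (Ne.symm hne)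
    set N := Subgroup.normalizer (V : Set G2)
    haveI : (V.subgroupOf N).Normal := Subgroup.normal_in_normalizer
    have hN : Nat.card N = 12 := by rw [card_normalizer_klein 3 hodd hV, if_neg h4]
    obtain ⟨e⟩ := alt4_of_klein (isKleinFour_subgroupOf hV Subgroup.le_normalizer)
      (klein_mem_of_conjNormal 3 hodd hV) hN
    have hxN : x ∈ N := Subgroup.le_normalizer (mem_fourGroup.2 (Or.inr (Or.inl rfl)))
    have hsN : s ∈ N := Subgroup.le_normalizer (mem_fourGroup.2 (Or.inr (Or.inr (Or.inl rfl))))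
    obtain ⟨hcard, hprop⟩ := alt4_fibre (e ⟨x, hxN⟩) (e ⟨s, hsN⟩)
      (by rw [← map_mul, ← map_one e]; exact congrArg e (Subtype.ext hxx))
      (fun h => hx1 (congrArg Subtype.val (e.injective (h.trans (map_one e).symm))))
      (by rw [← map_mul, ← map_one e]; exact congrArg e (Subtype.ext (mul_self_of_orderOf_two os)))
      (fun h => orderOf_ne_one os (congrArg Subtype.val (e.injective (h.trans (map_one e).symm))))
      (fun h => hne (congrArg Subtype.val (e.injective h)).symm)
    refine (Finset.card_bij (fun g _ => ((e.symm g : N) : G2)) ?_ ?_ ?_).symm.trans hcard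
    · intro g hg
      simp only [Finset.mem_filter, Finset.mem_univ, true_and] at hg ⊢
      obtain ⟨g3, ag3, g1⟩ := hprop g hg
      have c1 := congrArg (fun z : alternatingGroup (Fin 4) => ((e.symm z : N) : G2)) g3
      have c2 := congrArg (fun z : alternatingGroup (Fin 4) => ((e.symm z : N) : G2)) ag3
      have c3 := congrArg (fun z : alternatingGroup (Fin 4) => ((e.symm z : N) : G2)) hg
      simp only [map_pow, map_mul, map_inv, map_one, MulEquiv.symm_apply_apply, Subgroup.coe_pow,
        Subgroup.coe_mul, Subgroup.coe_inv, Subgroup.coe_one] at c1 c2 c3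
      exact ⟨⟨c1, c2, fun h => g1 (e.symm.injective ((Subtype.ext h).trans (map_one _).symm))⟩, c3⟩
    · intro a _ b _ h
      exact e.symm.injective (Subtype.ext h)
    · intro y hy
      simp only [Finset.mem_filter, Finset.mem_univ, true_and] at hy
      obtain ⟨⟨hy3, hxy3, hy1⟩, hyx⟩ := hy
      have hyN : y ∈ N := by
        obtain ⟨hys, -⟩ := klein_of_rel hxx hy3 hxy3
        rw [hyx] at hys
        have key : ∀ z ∈ V, y * z * y⁻¹ ∈ V := by
          intro z hz
          rcases mem_fourGroup.1 hz with rfl | rfl | rfl | rfl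
          · simp
          · exact mem_fourGroup.2 (Or.inr (Or.inr (Or.inl hyx)))
          · exact mem_fourGroup.2 (Or.inr (Or.inr (Or.inr hys)))
          · refine mem_fourGroup.2 (Or.inr (Or.inl ?_))
            rw [show y * (x * s) * y⁻¹ = (y * x * y⁻¹) * (y * s * y⁻¹) by simp [mul_assoc], hys, hyx,
              ← mul_assoc, hcs.eq, mul_assoc, mul_self_of_orderOf_two os, mul_one]
        rw [Subgroup.mem_normalizer_iff]
        intro z
        refine ⟨key z, fun h => ?_⟩
        have h3 := key _ (key _ h)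
        rwa [show y * (y * (y * z * y⁻¹) * y⁻¹) * y⁻¹ = y ^ 3 * z * (y ^ 3)⁻¹ by
          simp [pow_succ, mul_assoc], hy3, _root_.inv_one, one_mul, mul_one] at h3
      refine ⟨e ⟨y, hyN⟩, ?_, by simp⟩
      simp only [Finset.mem_filter, Finset.mem_univ, true_and]
      rw [← map_inv, ← map_mul, ← map_mul]
      exact congrArg e (Subtype.ext hyx)
  · intro y hy
    simp only [Finset.coe_filter, Finset.mem_univ, true_and, Set.mem_setOf_eq] at hy ⊢
    obtain ⟨hy3, hxy3, hy1⟩ := hy
    obtain ⟨-, hc⟩ := klein_of_rel hxx hy3 hxy3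
    refine ⟨invol_conj_orderOf hx y, hc.symm, fun e => ?_⟩
    have hcy : Commute x y := (mul_inv_eq_iff_eq_mul.1 e).symm
    rw [hcy.mul_pow, hy3, mul_one, pow_succ, sq, hxx, one_mul] at hxy3
    exact hx1 hxy3

theorem card_sol_invol_three (hG : Cfsg.IsMinimalSimple G2) (hq : 4 ≤ qq) (h8 : qq % 8 = 3) {x : G2}
    (hx : orderOf x = 2) : Nat.card {y : G2 // SolPair x y} = qq * (qq + 1) := by
  classical
  haveI : Fintype G2 := Fintype.ofFinite _
  obtain ⟨hodd, hd, hm, h4, h24, hcG⟩ := three_facts (F := F) h8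
  have hxx : x * x = 1 := mul_self_of_orderOf_two hx
  have hx1 : x ≠ 1 := orderOf_ne_one hx
  set I : Finset G2 := Finset.univ.filter fun y => orderOf y = 2
  set J : Finset G2 := Finset.univ.filter fun y => orderOf (x * y) = 2
  set T : Finset G2 := (tor x : Set G2).toFinset
  set A : Finset G2 := Finset.univ.filter fun y => y ^ 3 = 1 ∧ (x * y) ^ 3 = 1 ∧ y ≠ 1
  have hset : (Finset.univ.filter fun y : G2 => SolPair x y) = (I ∪ J) ∪ T ∪ A := by
    ext y
    simp only [Finset.mem_filter, Finset.mem_univ, true_and, Finset.mem_union,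
      solPair_invol_three hG hq h8 hx, I, J, T, A, Set.mem_toFinset, SetLike.mem_coe, or_assoc]
  have cI : I.card = qq * ((qq - 1) / 2) := by
    have h := card_invol 3 hodd (F := F)
    rw [Nat.card_eq_fintype_card, Fintype.card_subtype, hcG, hm] at h
    refine Nat.eq_of_mul_eq_mul_right (show 0 < qq + 1 by omega) (Eq.trans ?_ h)
    rw [show 2 * ((qq + 1) / 2) = qq + 1 by omega]
  have cJ : J.card = I.card := by
    refine Finset.card_bij (fun y _ => x * y) ?_ ?_ ?_
    · intro y hy; simpa [I, J] using hy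
    · intro a _ b _ h; exact mul_left_cancel h
    · intro v hv
      exact ⟨x * v, by simpa [I, J, ← mul_assoc, hxx] using hv, by rw [← mul_assoc, hxx, one_mul]⟩
  have cIJ : (I ∩ J).card = mq := by
    rw [← card_commuting 3 hodd hx, Nat.card_eq_fintype_card, Fintype.card_subtype]
    congr 1
    ext v
    simp only [I, J, Finset.mem_inter, Finset.mem_filter, Finset.mem_univ, true_and]
    constructor
    · rintro ⟨h1, h2⟩
      have h2' := inv_eq_of_mul_eq_one_right (mul_self_of_orderOf_two h2)
      rw [_root_.mul_inv_rev, inv_eq_of_mul_eq_one_right (mul_self_of_orderOf_two h1),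
        inv_eq_of_mul_eq_one_right hxx] at h2'
      refine ⟨h1, h2', ?_⟩
      rintro rfl
      rw [hxx, orderOf_one] at h2
      omega
    · rintro ⟨h1, h2, h3⟩
      refine ⟨h1, orderOf_eq_prime ?_ ?_⟩
      · rw [h2.symm.mul_pow, sq, sq, hxx, mul_self_of_orderOf_two h1, one_mul]
      · intro e
        exact h3 ((inv_eq_of_mul_eq_one_right e).symm.trans (inv_eq_of_mul_eq_one_right hxx))
  have cT : T.card = mq := by
    rw [← card_tor_invol 3 hodd hx]
    exact (Nat.card_eq_card_toFinset (tor x : Set G2)).symm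
  have cA : A.card = 4 * mq := by
    rw [← card_alt4_pairs h8 hx, Nat.card_eq_fintype_card, Fintype.card_subtype]
  have hss := invol_ss 3 hodd hx
  have hinT : (I ∪ J) ∩ T = {1, x} := by
    ext v
    simp only [I, J, T, Finset.mem_inter, Finset.mem_union, Finset.mem_filter, Finset.mem_univ, true_and,
      Set.mem_toFinset, SetLike.mem_coe, Finset.mem_insert, Finset.mem_singleton]
    constructor
    · rintro ⟨h1 | h1, h2⟩
      · exact Or.inr (tor_invol_unique 3 hss h2 (self_mem_tor x) h1 hx)
      · have h3 := tor_invol_unique 3 hss (mul_mem (self_mem_tor x) h2) (self_mem_tor x) h1 hx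
        exact Or.inl (mul_eq_left.1 h3)
    · rintro (rfl | rfl)
      · exact ⟨Or.inr (by rw [mul_one]; exact hx), one_mem _⟩
      · exact ⟨Or.inl hx, self_mem_tor _⟩
  have hdA : ((I ∪ J) ∪ T) ∩ A = ∅ := by
    ext v
    simp only [I, J, T, A, Finset.mem_inter, Finset.mem_union, Finset.mem_filter, Finset.mem_univ,
      true_and, Set.mem_toFinset, SetLike.mem_coe, Finset.notMem_empty, iff_false, not_and, not_not]
    intro h hv3 hxv3
    by_contra hv1
    have key : ∀ g : G2, g ^ 3 = 1 → orderOf g ≠ 2 := fun g hg e => by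
      have := orderOf_dvd_of_pow_eq_one hg
      rw [e] at this
      norm_num at this
    rcases h with (h | h) | h
    · exact key v hv3 h
    · exact key _ hxv3 h
    · rw [(tor_comm hx1 (self_mem_tor x) h).mul_pow, hv3, mul_one, pow_succ, sq, hxx, one_mul] at hxv3
      exact hx1 hxv3
  have h1 := Finset.card_union_add_card_inter I J
  have h2 := Finset.card_union_add_card_inter (I ∪ J) T
  have h3 := Finset.card_union_add_card_inter ((I ∪ J) ∪ T) A
  rw [cIJ, cJ, cI] at h1
  rw [hinT, Finset.card_pair (Ne.symm hx1), cT] at h2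
  rw [hdA, Finset.card_empty, cA] at h3
  rw [Nat.card_eq_fintype_card, Fintype.card_subtype, hset]
  have e1 : qq * ((qq - 1) / 2) * 2 + qq = qq * qq := by
    rw [mul_assoc, show (qq - 1) / 2 * 2 = qq - 1 by omega, Nat.mul_sub, Nat.mul_one,
      Nat.sub_add_cancel (Nat.le_mul_self qq)]
  rw [Nat.mul_add, Nat.mul_one]
  omega

theorem alt4_traces {H : Subgroup G2} (e : H ≃* alternatingGroup (Fin 4)) {g : SL(2, F)}
    (hg : proj g ∈ H) : tr g = 0 ∨ tr g = 1 ∨ tr g = -1 := by
  have h3 : (3 : F) = 0 := by exact_mod_cast CharP.cast_eq_zero F 3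
  have back : ∀ n : ℕ, (e ⟨proj g, hg⟩) ^ n = 1 → proj g ^ n = 1 := fun n hn =>
    congrArg Subtype.val (e.injective (by rw [map_pow, hn, map_one] :
      e (⟨proj g, hg⟩ ^ n) = e 1))
  have sq1 : tr g ^ 2 = 1 → tr g = 1 ∨ tr g = -1 := fun h => sq_eq_one_iff.1 h
  rcases alt4_orders (e ⟨proj g, hg⟩) with h | h
  · have h2 := back 2 h
    rw [sq, ← map_mul, proj_eq_one_iff, mem_center_iff_pm] at h2
    rcases h2 with h2 | h2
    · have h20 : (2 : F) ≠ 0 := fun e2 => one_ne_zero (α := F) (by linear_combination h3 - e2)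
      rcases eq_pm_of_sq_eq_one h20 h2 with rfl | rfl
      · exact Or.inr (sq1 (by rw [tr_one]; linear_combination h3))
      · exact Or.inr (sq1 (by rw [tr_neg, tr_one]; linear_combination h3))
    · left
      have hc := cayley g
      rw [← Matrix.SpecialLinearGroup.coe_mul, h2] at hc
      have h00 := congrFun (congrFun hc 0) 0
      have h11 := congrFun (congrFun hc 1) 1
      simp at h00 h11
      have : tr g * tr g = 0 := by
        nth_rw 2 [tr_def g]
        linear_combination -h00 - h11
      exact mul_self_eq_zero.1 this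
  · have h2 := (pow_char_eq_one_iff 3).1 (back 3 h)
    exact Or.inr (sq1 (by linear_combination h2 + h3))

theorem solPair_order_three (hG : Cfsg.IsMinimalSimple G2) (hq : 4 ≤ qq) (h8 : qq % 8 = 3) (y : G2) :
    SolPair (transl 1) y ↔ y ∈ borelP ∨
      ∃ Y : SL(2, F), proj Y = y ∧ Y 1 0 = 1 ∧ (tr Y = 0 ∨ tr Y = 1 ∨ tr Y = -1) := by
  classical
  obtain ⟨hodd, hd, -, -, h24, hcG⟩ := three_facts (F := F) h8
  have hx3 : transl (1 : F) ^ 3 = 1 := transl_pow_char 3 1
  have hx1 : transl (1 : F) ≠ 1 := transl_ne_one one_ne_zero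
  have hxx : transl (1 : F) * transl 1 ≠ 1 := by
    intro h
    apply hx1
    rw [pow_succ, sq, h, one_mul] at hx3
    exact hx3
  constructor
  · intro h
    obtain ⟨hxH, hyH⟩ := solPair_mem (transl (1 : F)) y
    have hne := not_solPair_top 3 hq h
    set H := Subgroup.closure ({transl 1, y} : Set G2)
    have hsol := hG.2.2 H hne
    have hA4 : H ≃* alternatingGroup (Fin 4) → y ∈ borelP ∨
        ∃ Y : SL(2, F), proj Y = y ∧ Y 1 0 = 1 ∧ (tr Y = 0 ∨ tr Y = 1 ∨ tr Y = -1) := by
      intro e
      obtain ⟨Y, rfl⟩ := proj_surjective y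
      have h3 : (3 : F) = 0 := by exact_mod_cast CharP.cast_eq_zero F 3
      have hs := alt4_traces e hyH
      have hsc := alt4_traces e (g := upSL 1 * Y) (by rw [map_mul]; exact mul_mem hxH hyH)
      rw [tr_upSL_mul, one_mul] at hsc
      have hc : Y 1 0 = 0 ∨ Y 1 0 = 1 ∨ Y 1 0 = -1 := by
        rcases hs with e1 | e1 | e1 <;> rcases hsc with e2 | e2 | e2 <;> rw [e1] at e2 <;>
          first
          | exact Or.inl (by linear_combination e2)
          | exact Or.inr (Or.inl (by linear_combination e2))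
          | exact Or.inr (Or.inl (by linear_combination e2 - h3))
          | exact Or.inr (Or.inr (by linear_combination e2))
          | exact Or.inr (Or.inr (by linear_combination e2 + h3))
      rcases hc with hc | hc | hc
      · exact Or.inl (proj_mem_borelP.2 hc)
      · exact Or.inr ⟨Y, rfl, hc, hs⟩
      · refine Or.inr ⟨-Y, proj_neg Y, by simp [hc], ?_⟩
        rw [tr_neg]
        rcases hs with e1 | e1 | e1 <;> rw [e1] <;> simp
    cases dickson 3 H with
    | cyclic hc hk =>
      exact Or.inl (commute_mem_borelP 3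
        (congrArg Subtype.val (mul_comm' (⟨y, hyH⟩ : H) ⟨transl 1, hxH⟩)))
    | dihedral k e hk =>
      rcases dihedral_cases e.some hxH hyH with h' | ⟨h', -⟩ | h'
      · exact Or.inl (commute_mem_borelP 3 h'.symm)
      · exact absurd h' hxx
      · refine Or.inl (mem_borelP_of_conj (s := -1) one_ne_zero ?_)
        rw [h']
        exact inv_eq_of_mul_eq_one_right (by rw [transl_mul, add_neg_cancel, transl_zero])
    | borel P hle hz =>
      exact Or.inl (mem_borelP_of_pair 3 (cjP_mem_of_le 3 hle hxH) (cjP_mem_of_le 3 hle hyH))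
    | a4 e => exact hA4 e.some
    | s4 e =>
      exfalso
      apply h24
      have := H.card_subgroup_dvd_card
      rwa [Nat.card_congr e.some.toEquiv, Nat.card_perm, Nat.card_fin] at this
    | a5 e => exact absurd (solvable_of_equiv e.some.symm hsol) alt5_not_solvable
    | field P K hle he =>
      exact hA4 (field_three_alt4 3 rfl h24 (sol_subfield 3 hG hne he).1 he).some
  · rintro (h | ⟨Y, rfl, hc, hs⟩)
    · exact solPair_of_normalizer hG (tor_transl_proper 3 hq).1 (tor_transl_proper 3 hq).2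
        (borelP_normalizes_transl 3 (transl_mem_borelP 1)) (borelP_normalizes_transl 3 h)
    · obtain ⟨n, -, hn⟩ := FiniteField.card F 3
      obtain ⟨K, hK⟩ := H42.exists_subfield_card 3 (F := F) (a := 1) (b := n) hn one_ne_zero (one_dvd _)
      rw [pow_one] at hK
      have hne : projField K ≠ ⊤ := H42.projField_ne_top (by
        rw [hK]; omega)
      rw [← solPair_map (MulAut.conj (transl (-Y 0 0)))]
      refine hG.2.2 _ (ne_top_of_le_ne_top hne ((Subgroup.closure_le _).2 ?_))
      have h1 : (MulAut.conj (transl (-Y 0 0))) (transl (1 : F)) = transl 1 := by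
        rw [MulAut.conj_apply, transl_mul, show (transl (-Y 0 0))⁻¹ = transl (Y 0 0) from
          inv_eq_of_mul_eq_one_right (by rw [transl_mul, neg_add_cancel, transl_zero]), transl_mul]
        congr 1
        ring
      rintro z (rfl | rfl)
      · rw [h1]
        exact ⟨upSL 1, rfl, 1, one_ne_zero, fun i j => by
          rw [one_mul]; fin_cases i <;> fin_cases j <;> simp⟩
      · refine ⟨upSL (-Y 0 0) * Y * (upSL (-Y 0 0))⁻¹, by rw [map_mul, map_mul, map_inv]; rfl,
          1, one_ne_zero, fun i j => ?_⟩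
        have hd := Y.2
        rw [Matrix.det_fin_two, hc, mul_one] at hd
        have htr : Y 0 0 + Y 1 1 ∈ K := by
          rw [← tr_def]
          rcases hs with e | e | e <;> rw [e]
          exacts [zero_mem K, one_mem K, neg_mem (one_mem K)]
        rw [one_mul]
        have hm : ((upSL (-Y 0 0) * Y * (upSL (-Y 0 0))⁻¹ : SL(2, F)) : Matrix (Fin 2) (Fin 2) F) =
            !![0, -1; 1, Y 0 0 + Y 1 1] := by
          rw [Matrix.SpecialLinearGroup.coe_mul, Matrix.SpecialLinearGroup.coe_mul,
            Matrix.SpecialLinearGroup.coe_inv, Matrix.adjugate_fin_two, coe_upSL]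
          ext i j
          fin_cases i <;> fin_cases j <;>
            simp [Matrix.mul_apply, Matrix.vecMul, dotProduct, Fin.sum_univ_two, hc] <;>
            first | linear_combination hd | linear_combination -hd | ring
        rw [hm]
        fin_cases i <;> fin_cases j <;> simp [htr]

theorem card_sol_order_three (hG : Cfsg.IsMinimalSimple G2) (hq : 4 ≤ qq) (h8 : qq % 8 = 3) :
    2 * Nat.card {y : G2 // SolPair (transl 1) y} = qq * (qq + 5) := by
  classical
  haveI : Fintype G2 := Fintype.ofFinite _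
  obtain ⟨hodd, hd, -⟩ := three_facts (F := F) h8
  have h3 : (3 : F) = 0 := by exact_mod_cast CharP.cast_eq_zero F 3
  have h20 : (2 : F) ≠ 0 := fun e2 => one_ne_zero (α := F) (by linear_combination h3 - e2)
  let S3 : Finset F := {0, 1, -1}
  have cS3 : S3.card = 3 := by
    simp only [S3]
    rw [Finset.card_insert_of_notMem, Finset.card_pair]
    · exact fun e => h20 (by linear_combination e)
    · simp
  let Φ : F × F → G2 := fun q => proj (⟨!![q.2, q.2 * (q.1 - q.2) - 1; 1, q.1 - q.2], by
    rw [Matrix.det_fin_two]; simp⟩ : SL(2, F))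
  have hΦ : Function.Injective Φ := by
    rintro ⟨s, a⟩ ⟨s', a'⟩ h
    rcases proj_eq_proj_iff.1 h with e | e
    · have e1 := congrArg (fun g : SL(2, F) => g 0 0) e
      have e2 := congrArg (fun g : SL(2, F) => g 1 1) e
      simp at e1 e2
      exact Prod.ext (by show s = s'; linear_combination -e1 - e2) e1.symm
    · have e1 := congrArg (fun g : SL(2, F) => g 1 0) e
      have e1' : (1 : F) = -1 := e1
      exact absurd (show (2 : F) = 0 by linear_combination e1') h20
  set B : Finset G2 := ((borelP : Subgroup G2) : Set G2).toFinset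
  set E : Finset G2 := (S3 ×ˢ Finset.univ).image Φ
  have cE : E.card = 3 * qq := by
    rw [Finset.card_image_of_injective _ hΦ, Finset.card_product, cS3, Finset.card_univ]
  have hdisj : Disjoint B E := by
    rw [Finset.disjoint_left]
    intro v hv hE
    obtain ⟨⟨s, a⟩, -, rfl⟩ := Finset.mem_image.1 hE
    simp only [B, Set.mem_toFinset, SetLike.mem_coe] at hv
    change proj _ ∈ borelP at hv
    have h10 := proj_mem_borelP.1 hv
    exact one_ne_zero (show (1 : F) = 0 from h10)
  have hset : (Finset.univ.filter fun y : G2 => SolPair (transl 1) y) = B ∪ E := by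
    ext y
    simp only [Finset.mem_filter, Finset.mem_univ, true_and, Finset.mem_union,
      solPair_order_three hG hq h8, B, Set.mem_toFinset, SetLike.mem_coe]
    refine or_congr Iff.rfl ?_
    simp only [E, S3, Finset.mem_image, Finset.mem_product, Finset.mem_insert, Finset.mem_singleton,
      Finset.mem_univ, and_true]
    constructor
    · rintro ⟨Y, rfl, hc, hs⟩
      refine ⟨(tr Y, Y 0 0), hs, congrArg proj (Subtype.ext ?_)⟩
      have hd := Y.2
      rw [Matrix.det_fin_two, hc, mul_one] at hd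
      ext i j
      fin_cases i <;> fin_cases j <;> simp [tr_def, hc]
      linear_combination hd
    · rintro ⟨⟨s, a⟩, hs, rfl⟩
      refine ⟨_, rfl, rfl, ?_⟩
      have key : ∀ g : SL(2, F), g 0 0 = a → g 1 1 = s - a → tr g = s := fun g h1 h2 => by
        rw [tr_def, h1, h2, add_sub_cancel]
      have hs' : ∀ t : F, t = s → (t = 0 ∨ t = 1 ∨ t = -1) := fun t ht => ht ▸ hs
      refine hs' _ ?_
      exact key _ rfl rfl
  rw [Nat.card_eq_fintype_card, Fintype.card_subtype, hset, Finset.card_union_of_disjoint hdisj, cE]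
  have cB : B.card = qq * ((qq - 1) / 2) := by
    rw [show B.card = Nat.card (borelP : Subgroup G2) from (Nat.card_eq_card_toFinset _).symm,
      card_borelP, hd]
  rw [cB, Nat.mul_add, ← mul_assoc, mul_comm 2 qq, mul_assoc,
    show 2 * ((qq - 1) / 2) = qq - 1 by omega, Nat.mul_add, Nat.mul_sub, Nat.mul_one]
  have := Nat.le_mul_self qq
  omega

end H39
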