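import Mathlib
import Cfsg.Agent.H18.SquaresCounts
import Cfsg.Agent.H89.PSL3Two
import Cfsg.Agent.H67.GL2Sylow
import Cfsg.Agent.H40.SL2Sylow

/-!
Sylow 2-subgroups of `GL_n(q)`, `q` odd, `n` a power of two: they act absolutely irreducibly and no
element of odd order outside the scalars normalizes them or their determinant-one part.
-/

set_option autoImplicit false
set_option maxHeartbeats 800000

namespace H39.Wr

open Matrix

variable {F : Type*} [Field F] {ι : Type} [Fintype ι] [DecidableEq ι]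

/-- The elements of determinant one. -/
def detOne (ι : Type) [Fintype ι] [DecidableEq ι] (F : Type*) [Field F] : Subgroup (GL ι F) :=
  (GeneralLinearGroup.det (n := ι) (R := F)).ker

theorem mem_detOne {g : GL ι F} : g ∈ detOne ι F ↔ (g : Matrix ι ι F).det = 1 := by
  rw [detOne, MonoidHom.mem_ker, Units.ext_iff, GeneralLinearGroup.val_det_apply, Units.val_one]

/-- The determinant-one part of `W` has only scalars in its commutant. -/
def Irr (W : Subgroup (GL ι F)) : Prop :=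
  ∀ M : Matrix ι ι F, (∀ c ∈ W ⊓ detOne ι F, M * (c : Matrix ι ι F) = (c : Matrix ι ι F) * M) →
    ∃ a : F, M = a • (1 : Matrix ι ι F)

/-- Only scalars have odd order and normalize `W`. -/
def Rig (W : Subgroup (GL ι F)) : Prop :=
  ∀ g : GL ι F, Odd (orderOf g) → g ∈ Subgroup.normalizer (W : Set (GL ι F)) →
    ∃ a : F, (g : Matrix ι ι F) = a • (1 : Matrix ι ι F)

theorem normalizer_le_detOne (W : Subgroup (GL ι F)) :
    Subgroup.normalizer (W : Set (GL ι F)) ≤
      Subgroup.normalizer ((W ⊓ detOne ι F : Subgroup (GL ι F)) : Set (GL ι F)) := by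
  intro g hg
  haveI : (detOne ι F).Normal := by unfold detOne; infer_instance
  rw [Subgroup.mem_normalizer_iff] at hg ⊢
  intro h
  rw [Subgroup.mem_inf, Subgroup.mem_inf, ← hg]
  refine and_congr_right fun _ => ⟨fun h1 => Subgroup.Normal.conj_mem inferInstance _ h1 g, fun h1 => ?_⟩
  have := Subgroup.Normal.conj_mem inferInstance _ h1 g⁻¹
  simpa [mul_assoc] using this

theorem Rig.of_detOne {W : Subgroup (GL ι F)} (h : Rig (W ⊓ detOne ι F)) : Rig W :=
  fun g ho hg => h g ho (normalizer_le_detOne W hg)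

section transport

variable {κ : Type} [Fintype κ] [DecidableEq κ] (f : Matrix ι ι F ≃ₐ[F] Matrix κ κ F)

/-- The isomorphism of general linear groups of an isomorphism of matrix algebras. -/
noncomputable def glMap : GL ι F ≃* GL κ F := Units.mapEquiv f.toMulEquiv

theorem glMap_val (g : GL ι F) : (glMap f g : Matrix κ κ F) = f (g : Matrix ι ι F) := rfl

theorem map_detOne (hf : ∀ A, (f A).det = A.det) :
    (detOne ι F).map (glMap f).toMonoidHom = detOne κ F := by
  ext g
  rw [Subgroup.mem_map_equiv, mem_detOne, mem_detOne, ← hf, ← glMap_val, MulEquiv.apply_symm_apply]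

theorem map_inf_detOne (hf : ∀ A, (f A).det = A.det) (W : Subgroup (GL ι F)) :
    (W ⊓ detOne ι F).map (glMap f).toMonoidHom = W.map (glMap f).toMonoidHom ⊓ detOne κ F := by
  rw [← map_detOne f hf]
  exact Subgroup.map_inf _ _ _ (glMap f).injective

theorem Irr.map (hf : ∀ A, (f A).det = A.det) {W : Subgroup (GL ι F)} (h : Irr W) :
    Irr (W.map (glMap f).toMonoidHom) := by
  intro M hM
  obtain ⟨a, ha⟩ := h (f.symm M) (fun c hc => by
    apply f.injective
    rw [map_mul, map_mul, f.apply_symm_apply, ← glMap_val]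
    exact hM _ (by rw [← map_inf_detOne f hf]; exact ⟨c, hc, rfl⟩))
  exact ⟨a, by rw [← f.apply_symm_apply M, ha, map_smul, map_one]⟩

theorem Rig.map {W : Subgroup (GL ι F)} (h : Rig W) : Rig (W.map (glMap f).toMonoidHom) := by
  intro g ho hg
  obtain ⟨g, rfl⟩ := (glMap f).surjective g
  rw [MulEquiv.orderOf_eq] at ho
  obtain ⟨a, ha⟩ := h g ho (by
    rw [Subgroup.mem_normalizer_iff] at hg ⊢
    intro x
    have := hg (glMap f x)
    rwa [← map_inv, ← map_mul, ← map_mul, Subgroup.mem_map_equiv, Subgroup.mem_map_equiv,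
      MulEquiv.symm_apply_apply, MulEquiv.symm_apply_apply] at this)
  exact ⟨a, by rw [glMap_val, ha, map_smul, map_one]⟩

end transport

/-- The three properties together. -/
def Good (k : ℕ) (W : Subgroup (GL ι F)) : Prop :=
  Irr W ∧ Rig W ∧ (2 ≤ k → Rig (W ⊓ detOne ι F))

theorem Good.map {κ : Type} [Fintype κ] [DecidableEq κ] (f : Matrix ι ι F ≃ₐ[F] Matrix κ κ F)
    (hf : ∀ A, (f A).det = A.det) {k : ℕ} {W : Subgroup (GL ι F)} (h : Good k W) :
    Good k (W.map (glMap f).toMonoidHom) :=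
  ⟨h.1.map f hf, h.2.1.map f, fun hk => by rw [← map_inf_detOne f hf]; exact (h.2.2 hk).map f⟩

/-- Conjugation of matrices by an invertible one. -/
def conjAlg (g : GL ι F) : Matrix ι ι F ≃ₐ[F] Matrix ι ι F where
  toFun A := (g : Matrix ι ι F) * A * ((g⁻¹ : GL ι F) : Matrix ι ι F)
  invFun A := ((g⁻¹ : GL ι F) : Matrix ι ι F) * A * (g : Matrix ι ι F)
  left_inv A := by
    simp only [mul_assoc, Units.inv_mul, mul_one]
    rw [← mul_assoc, Units.inv_mul, one_mul]
  right_inv A := by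
    simp only [mul_assoc, Units.mul_inv, mul_one]
    rw [← mul_assoc, Units.mul_inv, one_mul]
  map_mul' A B := by
    simp only [mul_assoc]
    rw [← mul_assoc ((g⁻¹ : GL ι F) : Matrix ι ι F) (g : Matrix ι ι F), Units.inv_mul, one_mul]
  map_add' A B := by rw [mul_add, add_mul]
  commutes' r := by
    show (g : Matrix ι ι F) * algebraMap F _ r * ((g⁻¹ : GL ι F) : Matrix ι ι F) = _
    rw [← Algebra.commutes r (g : Matrix ι ι F), mul_assoc, Units.mul_inv, mul_one]

theorem det_conjAlg (g : GL ι F) (A : Matrix ι ι F) : (conjAlg g A).det = A.det :=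
  Matrix.det_units_conj g A

theorem glMap_conjAlg (g : GL ι F) : (glMap (conjAlg g)).toMonoidHom = (MulAut.conj g).toMonoidHom :=
  MonoidHom.ext fun _ => Units.ext rfl

theorem neg_one_mem_sylow [Finite F] (P : Sylow 2 (GL ι F)) : (-1 : GL ι F) ∈ (P : Subgroup (GL ι F)) := by
  haveI : Fact (Nat.Prime 2) := ⟨Nat.prime_two⟩
  have hp : IsPGroup 2 (Subgroup.zpowers (-1 : GL ι F)) := by
    rintro ⟨y, k, rfl⟩
    refine ⟨1, Subtype.ext ?_⟩
    show ((-1 : GL ι F) ^ k) ^ 2 ^ 1 = 1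
    rw [pow_one, sq, ← _root_.zpow_add, ← two_mul, _root_.zpow_mul]
    simp
  haveI : (Subgroup.zpowers (-1 : GL ι F)).Normal := by
    constructor
    rintro _ ⟨k, rfl⟩ g
    refine ⟨k, ?_⟩
    have : Commute g ((-1 : GL ι F) ^ k) := ((Commute.one_right g).neg_right).zpow_right k
    rw [this.eq, mul_inv_cancel_right]
  have h := P.is_maximal' (hp.to_sup_of_normal_left P.isPGroup') le_sup_right
  exact h.le (Subgroup.mem_sup_left (Subgroup.mem_zpowers _))

/-- An element of odd order commuting up to sign with an element different from its negative. -/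
theorem commute_of_conj_pm {G : Type*} [Group G] [HasDistribNeg G] {g z : G} (ho : Odd (orderOf g))
    (hz : -z ≠ z) (h : g * z * g⁻¹ = z ∨ g * z * g⁻¹ = -z) : g * z = z * g := by
  rcases h with h | h
  · exact mul_inv_eq_iff_eq_mul.1 h
  · exfalso
    apply hz
    have hk : ∀ n : ℕ, g ^ n * z * (g ^ n)⁻¹ = if Even n then z else -z := by
      intro n
      induction n with
      | zero => simp
      | succ n ih =>
        rw [pow_succ', _root_.mul_inv_rev, show g * g ^ n * z * ((g ^ n)⁻¹ * g⁻¹) =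
          g * (g ^ n * z * (g ^ n)⁻¹) * g⁻¹ by simp [mul_assoc], ih]
        rcases Nat.even_or_odd n with hn | hn
        · rw [if_pos hn, if_neg (by simp [parity_simps, hn]), h]
        · rw [if_neg (Nat.not_even_iff_odd.2 hn), if_pos (by simp [parity_simps]; exact hn)]
          rw [mul_neg, neg_mul, h, neg_neg]
    have := hk (orderOf g)
    rw [pow_orderOf_eq_one, if_neg (Nat.not_even_iff_odd.2 ho), one_mul, inv_one, mul_one] at this
    exact this.symm

section wreath

/-- Block diagonal pairs. -/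
def pairHom (ι : Type) [Fintype ι] [DecidableEq ι] (F : Type*) [Field F] :
    GL ι F × GL ι F →* GL (ι ⊕ ι) F :=
  MonoidHom.toHomUnits
    { toFun := fun p => fromBlocks (p.1 : Matrix ι ι F) 0 0 (p.2 : Matrix ι ι F)
      map_one' := by simp [fromBlocks_one]
      map_mul' := fun p r => by simp [fromBlocks_multiply] }

theorem pairHom_val (p : GL ι F × GL ι F) :
    (pairHom ι F p : Matrix (ι ⊕ ι) (ι ⊕ ι) F) = fromBlocks (p.1 : Matrix ι ι F) 0 0 (p.2 : Matrix ι ι F) := rfl

theorem pairHom_injective : Function.Injective (pairHom ι F) := by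
  intro p r h
  have e := congrArg Units.val h
  rw [pairHom_val, pairHom_val] at e
  obtain ⟨e1, -, -, e2⟩ := fromBlocks_inj.1 e
  exact Prod.ext (Units.ext e1) (Units.ext e2)

/-- The exchange of the two blocks. -/
def swapEl (ι : Type) [Fintype ι] [DecidableEq ι] (F : Type*) [Field F] : GL (ι ⊕ ι) F :=
  ⟨fromBlocks 0 1 1 0, fromBlocks 0 1 1 0, by simp [fromBlocks_multiply, fromBlocks_one],
    by simp [fromBlocks_multiply, fromBlocks_one]⟩

theorem swapEl_val : (swapEl ι F : Matrix (ι ⊕ ι) (ι ⊕ ι) F) = fromBlocks 0 1 1 0 := rfl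

theorem swapEl_mul_self : swapEl ι F * swapEl ι F = 1 := by
  ext1
  simp [swapEl_val, fromBlocks_multiply, fromBlocks_one]

theorem swap_pair (a b : GL ι F) :
    swapEl ι F * pairHom ι F (a, b) = pairHom ι F (b, a) * swapEl ι F := by
  ext1
  simp [swapEl_val, pairHom_val, fromBlocks_multiply]

theorem neg_pair (a b : GL ι F) : -pairHom ι F (a, b) = pairHom ι F (-a, -b) := by
  ext1
  simp [pairHom_val, fromBlocks_neg]

theorem pair_ne_pair_swap [Nonempty ι] (a b c d : GL ι F) :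
    pairHom ι F (a, b) ≠ pairHom ι F (c, d) * swapEl ι F := by
  intro h
  have e := congrArg Units.val h
  rw [Units.val_mul, pairHom_val, pairHom_val, swapEl_val, fromBlocks_multiply] at e
  obtain ⟨e1, -, -, -⟩ := fromBlocks_inj.1 e
  simp at e1

/-- The wreath product of `W` with a cyclic group of order two. -/
def wr (W : Subgroup (GL ι F)) : Subgroup (GL (ι ⊕ ι) F) where
  carrier := {x | ∃ a ∈ W, ∃ b ∈ W, x = pairHom ι F (a, b) ∨ x = pairHom ι F (a, b) * swapEl ι F}
  one_mem' := ⟨1, W.one_mem, 1, W.one_mem, Or.inl (map_one (pairHom ι F)).symm⟩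
  mul_mem' := by
    rintro x y ⟨a, ha, b, hb, hx⟩ ⟨c, hc, d, hd, hy⟩
    rcases hx with rfl | rfl <;> rcases hy with rfl | rfl
    · exact ⟨_, W.mul_mem ha hc, _, W.mul_mem hb hd, Or.inl (by rw [← map_mul]; rfl)⟩
    · exact ⟨_, W.mul_mem ha hc, _, W.mul_mem hb hd, Or.inr (by rw [← mul_assoc, ← map_mul]; rfl)⟩
    · exact ⟨_, W.mul_mem ha hd, _, W.mul_mem hb hc,
        Or.inr (by rw [mul_assoc, swap_pair, ← mul_assoc, ← map_mul]; rfl)⟩
    · exact ⟨_, W.mul_mem ha hd, _, W.mul_mem hb hc,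
        Or.inl (by rw [mul_assoc, ← mul_assoc (swapEl ι F), swap_pair, mul_assoc _ (swapEl ι F),
          swapEl_mul_self, mul_one, ← map_mul]; rfl)⟩
  inv_mem' := by
    rintro x ⟨a, ha, b, hb, rfl | rfl⟩
    · exact ⟨_, W.inv_mem ha, _, W.inv_mem hb, Or.inl (by rw [← map_inv]; rfl)⟩
    · refine ⟨_, W.inv_mem hb, _, W.inv_mem ha, Or.inr ?_⟩
      rw [_root_.mul_inv_rev, inv_eq_of_mul_eq_one_right swapEl_mul_self, ← map_inv, swap_pair]
      rfl

theorem pair_mem_wr [Nonempty ι] {W : Subgroup (GL ι F)} {a b : GL ι F} :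
    pairHom ι F (a, b) ∈ wr W ↔ a ∈ W ∧ b ∈ W := by
  constructor
  · rintro ⟨c, hc, d, hd, h | h⟩
    · obtain ⟨rfl, rfl⟩ := Prod.ext_iff.1 (pairHom_injective h)
      exact ⟨hc, hd⟩
    · exact absurd h (pair_ne_pair_swap _ _ _ _)
  · rintro ⟨ha, hb⟩
    exact ⟨a, ha, b, hb, Or.inl rfl⟩

theorem card_wr [Nonempty ι] [Finite F] (W : Subgroup (GL ι F)) :
    Nat.card (wr W) = 2 * Nat.card W ^ 2 := by
  have hb : Function.Bijective (fun p : (W × W) × Bool =>
      (if p.2 then ⟨pairHom ι F ((p.1.1 : GL ι F), (p.1.2 : GL ι F)) * swapEl ι F,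
          ⟨_, p.1.1.2, _, p.1.2.2, Or.inr rfl⟩⟩
        else ⟨pairHom ι F ((p.1.1 : GL ι F), (p.1.2 : GL ι F)), ⟨_, p.1.1.2, _, p.1.2.2, Or.inl rfl⟩⟩ : wr W)) := by
    constructor
    · rintro ⟨⟨⟨a, ha⟩, ⟨b, hb⟩⟩, i⟩ ⟨⟨⟨c, hc⟩, ⟨d, hd⟩⟩, j⟩ h
      rcases i <;> rcases j <;> simp only [Bool.false_eq_true, if_false, if_true] at h <;>
        replace h := congrArg Subtype.val h <;> simp only at h
      · obtain ⟨rfl, rfl⟩ := Prod.ext_iff.1 (pairHom_injective h); rfl
      · exact absurd h (pair_ne_pair_swap _ _ _ _)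
      · exact absurd h.symm (pair_ne_pair_swap _ _ _ _)
      · obtain ⟨rfl, rfl⟩ := Prod.ext_iff.1 (pairHom_injective (mul_right_cancel h)); rfl
    · rintro ⟨x, a, ha, b, hb, rfl | rfl⟩
      · exact ⟨((⟨a, ha⟩, ⟨b, hb⟩), false), rfl⟩
      · exact ⟨((⟨a, ha⟩, ⟨b, hb⟩), true), rfl⟩
  rw [← Nat.card_eq_of_bijective _ hb, Nat.card_prod, Nat.card_prod, Nat.card_eq_two_iff.2
    ⟨false, true, by simp, by ext b; cases b <;> simp⟩]
  ring

theorem det_pair (a b : GL ι F) :
    (pairHom ι F (a, b) : Matrix (ι ⊕ ι) (ι ⊕ ι) F).det =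
      (a : Matrix ι ι F).det * (b : Matrix ι ι F).det := by
  rw [pairHom_val, det_fromBlocks_zero₂₁]

theorem det_swapEl (he : Even (Fintype.card ι)) :
    (swapEl ι F : Matrix (ι ⊕ ι) (ι ⊕ ι) F).det = 1 := by
  have h : (swapEl ι F : Matrix (ι ⊕ ι) (ι ⊕ ι) F) =
      fromBlocks 1 1 0 1 * fromBlocks 1 0 (-1) 1 * fromBlocks 1 1 0 1 * fromBlocks (-1) 0 0 1 := by
    rw [swapEl_val]
    simp [fromBlocks_multiply]
  rw [h, det_mul, det_mul, det_mul, det_fromBlocks_zero₂₁, det_fromBlocks_zero₁₂,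
    det_fromBlocks_zero₂₁, det_neg, det_one, one_mul, one_mul, one_mul, mul_one, mul_one, he.neg_one_pow, one_mul]

end wreath

section step

variable [Nonempty ι] {W : Subgroup (GL ι F)}

theorem ne_neg_self (h2 : (2 : F) ≠ 0) (b : GL ι F) : -b ≠ b := by
  intro h
  obtain ⟨i⟩ := (inferInstance : Nonempty ι)
  have h1 : -(1 : GL ι F) = 1 := mul_right_cancel (b := b) (by rw [neg_one_mul, one_mul]; exact h)
  have h1' : ((-(1 : GL ι F) : GL ι F) : Matrix ι ι F) = ((1 : GL ι F) : Matrix ι ι F) := by rw [h1]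
  have := congrFun (congrFun h1' i) i
  simp at this
  exact h2 (by linear_combination -this)

theorem irr_wr (h2 : (2 : F) ≠ 0) (he : Even (Fintype.card ι)) (hI : Irr W)
    (hneg : (-1 : GL ι F) ∈ W) : Irr (wr W) := by
  intro M hM
  have hn1 : (-1 : GL ι F) ∈ W ⊓ detOne ι F :=
    ⟨hneg, mem_detOne.2 (by rw [Units.val_neg, Units.val_one, det_neg, det_one, he.neg_one_pow, one_mul])⟩
  have hp : ∀ a b : GL ι F, a ∈ W ⊓ detOne ι F → b ∈ W ⊓ detOne ι F →
      pairHom ι F (a, b) ∈ wr W ⊓ detOne (ι ⊕ ι) F := fun a b ha hb =>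
    ⟨pair_mem_wr.2 ⟨ha.1, hb.1⟩, mem_detOne.2 (by
      rw [det_pair, mem_detOne.1 ha.2, mem_detOne.1 hb.2, one_mul])⟩
  have hz := hM _ (hp _ _ hn1 (one_mem _))
  rw [pairHom_val, Units.val_neg, Units.val_one, ← fromBlocks_toBlocks M, fromBlocks_multiply,
    fromBlocks_multiply] at hz
  obtain ⟨-, h12, h21, -⟩ := fromBlocks_inj.1 hz
  simp at h12 h21
  have half : ∀ A : Matrix ι ι F, -A = A → A = 0 := fun A h => by
    ext i j
    have h' := congrFun (congrFun h i) j
    have : (2 : F) * A i j = 0 := by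
      simp only [Matrix.neg_apply] at h'
      linear_combination -h'
    simpa [h2] using this
  have e12 : M.toBlocks₁₂ = 0 := half _ (by first | exact h12 | exact h12.symm)
  have e21 : M.toBlocks₂₁ = 0 := half _ (by first | exact h21 | exact h21.symm)
  have e11 : ∀ c ∈ W ⊓ detOne ι F, M.toBlocks₁₁ * (c : Matrix ι ι F) = (c : Matrix ι ι F) * M.toBlocks₁₁ := by
    intro c hc
    have h := hM _ (hp c 1 hc (one_mem _))
    rw [pairHom_val, ← fromBlocks_toBlocks M, fromBlocks_multiply, fromBlocks_multiply] at h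
    simpa using (fromBlocks_inj.1 h).1
  obtain ⟨a, ha⟩ := hI _ e11
  have hs := hM (swapEl ι F) ⟨⟨1, W.one_mem, 1, W.one_mem, Or.inr (by
      rw [show pairHom ι F (1, 1) = 1 from map_one _, one_mul])⟩, mem_detOne.2 (det_swapEl he)⟩
  rw [swapEl_val, ← fromBlocks_toBlocks M, fromBlocks_multiply, fromBlocks_multiply] at hs
  have e22 : M.toBlocks₂₂ = M.toBlocks₁₁ := by
    have := (fromBlocks_inj.1 hs).2.1
    simpa using this.symm
  refine ⟨a, ?_⟩
  rw [← fromBlocks_toBlocks M, e12, e21, e22, ha, ← fromBlocks_one, fromBlocks_smul]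
  simp

/-- The element separating the two blocks. -/
def sep (ι : Type) [Fintype ι] [DecidableEq ι] (F : Type*) [Field F] : GL (ι ⊕ ι) F :=
  pairHom ι F (1, -1)

/-- The only involutions of `X` behaving like `sep` are `± sep`. -/
theorem like_sep (h2 : (2 : F) ≠ 0) {X : Subgroup (GL (ι ⊕ ι) F)}
    (U : Subgroup (GL ι F)) (hUX : ∀ c ∈ U, pairHom ι F (c, 1) ∈ X ∧ pairHom ι F (1, c) ∈ X)
    (hU : ∃ c ∈ U, c ≠ 1 ∧ c ≠ -1)
    (hcomm : ∀ M : Matrix ι ι F, (∀ c ∈ U, M * (c : Matrix ι ι F) = (c : Matrix ι ι F) * M) →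
      ∃ a : F, M = a • (1 : Matrix ι ι F))
    {y : GL (ι ⊕ ι) F} (hy : y ∈ wr W) (hy2 : y * y = 1) (hy1 : y ≠ 1) (hy1' : y ≠ -1)
    (hconj : ∀ s ∈ X, s * y * s⁻¹ = y ∨ s * y * s⁻¹ = -y) : y = sep ι F ∨ y = -sep ι F := by
  obtain ⟨a, -, b, -, rfl | rfl⟩ := hy
  · have hone : ∀ v : GL ι F, v * v = 1 → (∀ c ∈ U, c * v * c⁻¹ = v) → v = 1 ∨ v = -1 := by
      intro v hv hc
      obtain ⟨r, hr⟩ := hcomm (v : Matrix ι ι F) fun c hcU => by
        rw [← Units.val_mul, ← Units.val_mul]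
        exact congrArg Units.val (mul_inv_eq_iff_eq_mul.1 (hc c hcU)).symm
      obtain ⟨i⟩ := (inferInstance : Nonempty ι)
      have hv' : ((v * v : GL ι F) : Matrix ι ι F) = ((1 : GL ι F) : Matrix ι ι F) := by rw [hv]
      have e := congrFun (congrFun hv' i) i
      rw [Units.val_mul, hr, Units.val_one] at e
      simp at e
      rcases sq_eq_one_iff.1 (show r ^ 2 = 1 by rw [sq]; exact e) with rfl | rfl
      · exact Or.inl (Units.ext (by rw [hr, one_smul, Units.val_one]))
      · exact Or.inr (Units.ext (by rw [hr, neg_smul, one_smul, Units.val_neg, Units.val_one]))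
    have hab := hy2
    rw [← map_mul, map_eq_one_iff _ pairHom_injective, Prod.mk_mul_mk, Prod.mk_eq_one] at hab
    have ha := hone a hab.1 fun c hc => by
      rcases hconj _ (hUX c hc).1 with h | h
      · rw [← map_inv, ← map_mul, ← map_mul] at h
        simpa using congrArg Prod.fst (pairHom_injective h)
      · rw [← map_inv, ← map_mul, ← map_mul, neg_pair] at h
        exact absurd (by simpa using congrArg Prod.snd (pairHom_injective h)) (ne_neg_self h2 b).symm
    have hb := hone b hab.2 fun c hc => by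
      rcases hconj _ (hUX c hc).2 with h | h
      · rw [← map_inv, ← map_mul, ← map_mul] at h
        simpa using congrArg Prod.snd (pairHom_injective h)
      · rw [← map_inv, ← map_mul, ← map_mul, neg_pair] at h
        exact absurd (by simpa using congrArg Prod.fst (pairHom_injective h)) (ne_neg_self h2 a).symm
    rcases ha with rfl | rfl <;> rcases hb with rfl | rfl
    · exact absurd (map_one (pairHom ι F)) hy1
    · exact Or.inl rfl
    · exact Or.inr (by rw [sep, neg_pair, neg_neg])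
    · exact absurd (by rw [show (-1 : GL (ι ⊕ ι) F) = -pairHom ι F (1, 1) by
        rw [show pairHom ι F (1, 1) = 1 from map_one _], neg_pair]) hy1'
  · exfalso
    obtain ⟨c, hc, c1, c2⟩ := hU
    have e : pairHom ι F (c, 1) * (pairHom ι F (a, b) * swapEl ι F) * (pairHom ι F (c, 1))⁻¹ =
        pairHom ι F (c * a, b * c⁻¹) * swapEl ι F := by
      rw [← map_inv, mul_assoc, mul_assoc, Prod.inv_mk, inv_one, swap_pair, ← mul_assoc, ← mul_assoc,
        ← map_mul, ← map_mul]
      simp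
    rcases hconj _ (hUX c hc).1 with h | h
    · rw [e] at h
      exact c1 (mul_eq_right.1 (congrArg Prod.fst (pairHom_injective (mul_right_cancel h))))
    · rw [e, ← neg_mul, neg_pair] at h
      have h' : c * a = -a := congrArg Prod.fst (pairHom_injective (mul_right_cancel h))
      exact c2 (mul_right_cancel (b := a) (by rw [h', neg_one_mul]))

theorem rig_wr_aux [Finite F] (h2 : (2 : F) ≠ 0) (he : Even (Fintype.card ι)) (hI : Irr W) (hR : Rig W)
    (hp : IsPGroup 2 W) (hneg : (-1 : GL ι F) ∈ W) (hU : ∃ c ∈ W ⊓ detOne ι F, c ≠ 1 ∧ c ≠ -1) :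
    Rig (wr W ⊓ detOne (ι ⊕ ι) F) := by
  intro g ho hg
  set X := wr W ⊓ detOne (ι ⊕ ι) F with hX
  have hdn : ((-1 : GL ι F) : Matrix ι ι F).det = 1 := by
    rw [Units.val_neg, Units.val_one, det_neg, det_one, he.neg_one_pow, one_mul]
  have hzX : sep ι F ∈ X := ⟨pair_mem_wr.2 ⟨one_mem _, hneg⟩, mem_detOne.2 (by
    rw [sep, det_pair, hdn, Units.val_one, det_one, one_mul])⟩
  have hUX : ∀ c ∈ W ⊓ detOne ι F, pairHom ι F (c, 1) ∈ X ∧ pairHom ι F (1, c) ∈ X := fun c hc =>
    ⟨⟨pair_mem_wr.2 ⟨hc.1, one_mem _⟩, mem_detOne.2 (by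
      rw [det_pair, mem_detOne.1 hc.2, Units.val_one, det_one, one_mul])⟩,
     ⟨pair_mem_wr.2 ⟨one_mem _, hc.1⟩, mem_detOne.2 (by
      rw [det_pair, mem_detOne.1 hc.2, Units.val_one, det_one, one_mul])⟩⟩
  have hnorm := Subgroup.mem_normalizer_iff.1 hg
  have hneg1 : pairHom ι F (1, 1) = 1 := map_one _
  have hsep2 : sep ι F * sep ι F = 1 := by rw [sep, ← map_mul]; simpa using hneg1
  have hsconj : ∀ s ∈ X, s * sep ι F * s⁻¹ = sep ι F ∨ s * sep ι F * s⁻¹ = -sep ι F := by
    rintro s ⟨⟨a, -, b, -, rfl | rfl⟩, -⟩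
    · left
      rw [sep, ← map_inv, ← map_mul, ← map_mul]
      simp
    · right
      rw [_root_.mul_inv_rev, inv_eq_of_mul_eq_one_right swapEl_mul_self, ← map_inv, sep, neg_pair,
        mul_assoc (pairHom ι F (a, b)) (swapEl ι F), swap_pair, mul_assoc, mul_assoc (pairHom ι F _),
        ← mul_assoc (swapEl ι F) (swapEl ι F), swapEl_mul_self, one_mul, ← map_mul, ← map_mul]
      simp
  set y := g * sep ι F * g⁻¹ with hy
  have hyX : y ∈ X := (hnorm _).1 hzX
  have hyneg : y ≠ -1 := by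
    intro h
    have : sep ι F = -1 := by
      rw [show sep ι F = g⁻¹ * y * g by simp [hy, mul_assoc], h]
      simp
    rw [sep, show (-1 : GL (ι ⊕ ι) F) = -pairHom ι F (1, 1) by rw [hneg1], neg_pair] at this
    exact ne_neg_self h2 1 (congrArg Prod.fst (pairHom_injective this)).symm
  have hy1 : y ≠ 1 := by
    intro h
    rw [hy, conj_eq_one_iff, sep, map_eq_one_iff _ pairHom_injective, Prod.mk_eq_one] at h
    exact ne_neg_self h2 1 h.2
  have hyconj : ∀ s ∈ X, s * y * s⁻¹ = y ∨ s * y * s⁻¹ = -y := by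
    intro s hs
    have hs' : g⁻¹ * s * g ∈ X := by
      rw [hnorm]
      simpa [mul_assoc] using hs
    rcases hsconj _ hs' with h | h
    · left
      calc s * y * s⁻¹ = g * ((g⁻¹ * s * g) * sep ι F * (g⁻¹ * s * g)⁻¹) * g⁻¹ := by simp [hy, mul_assoc]
        _ = y := by rw [h]
    · right
      calc s * y * s⁻¹ = g * ((g⁻¹ * s * g) * sep ι F * (g⁻¹ * s * g)⁻¹) * g⁻¹ := by simp [hy, mul_assoc]
        _ = -y := by rw [h, mul_neg, neg_mul]
  have hy2 : y * y = 1 := by
    calc y * y = g * (sep ι F * sep ι F) * g⁻¹ := by simp [hy, mul_assoc]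
      _ = 1 := by rw [hsep2]; simp
  have hgz : g * sep ι F = sep ι F * g := by
    refine commute_of_conj_pm ho (ne_neg_self h2 _) ?_
    exact like_sep h2 _ hUX hU hI hyX.1 hy2 hy1 hyneg hyconj
  -- `g` is block diagonal
  have hgv := congrArg Units.val hgz
  rw [Units.val_mul, Units.val_mul, sep, pairHom_val, Units.val_neg, Units.val_one,
    ← fromBlocks_toBlocks (g : Matrix (ι ⊕ ι) (ι ⊕ ι) F), fromBlocks_multiply, fromBlocks_multiply] at hgv
  obtain ⟨-, h12, h21, -⟩ := fromBlocks_inj.1 hgv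
  simp at h12 h21
  have half : ∀ A : Matrix ι ι F, -A = A → A = 0 := fun A h => by
    ext i j
    have h' := congrFun (congrFun h i) j
    have : (2 : F) * A i j = 0 := by
      simp only [Matrix.neg_apply] at h'
      linear_combination -h'
    simpa [h2] using this
  have hgb : (g : Matrix (ι ⊕ ι) (ι ⊕ ι) F) =
      fromBlocks (toBlocks₁₁ (g : Matrix (ι ⊕ ι) (ι ⊕ ι) F)) 0 0 (toBlocks₂₂ (g : Matrix (ι ⊕ ι) (ι ⊕ ι) F)) := by
    conv_lhs => rw [← fromBlocks_toBlocks (g : Matrix (ι ⊕ ι) (ι ⊕ ι) F)]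
    rw [half (toBlocks₁₂ (g : Matrix (ι ⊕ ι) (ι ⊕ ι) F)) (by first | exact h12 | exact h12.symm),
      half (toBlocks₂₁ (g : Matrix (ι ⊕ ι) (ι ⊕ ι) F)) (by first | exact h21 | exact h21.symm)]
  have hdet : (g : Matrix (ι ⊕ ι) (ι ⊕ ι) F).det ≠ 0 := GeneralLinearGroup.det_ne_zero g
  rw [hgb, det_fromBlocks_zero₂₁, mul_ne_zero_iff] at hdet
  set g1 := GeneralLinearGroup.mkOfDetNeZero _ hdet.1
  set g2 := GeneralLinearGroup.mkOfDetNeZero _ hdet.2
  have hgp : g = pairHom ι F (g1, g2) := Units.ext (by rw [pairHom_val]; exact hgb)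
  have hinX : ∀ a ∈ W, pairHom ι F (a, a⁻¹) ∈ X := fun a ha =>
    ⟨pair_mem_wr.2 ⟨ha, inv_mem ha⟩, mem_detOne.2 (by
      rw [det_pair, ← det_mul, Units.mul_inv, det_one])⟩
  have hgi : ∀ gi : GL ι F, (gi = g1 ∨ gi = g2) → gi ∈ Subgroup.normalizer (W : Set (GL ι F)) := by
    intro gi hgi
    have key : ∀ (x : GL ι F), x ∈ W → g1 * x * g1⁻¹ ∈ W ∧ g2 * x * g2⁻¹ ∈ W := by
      intro x hx
      have h := (hnorm _).1 (hinX x hx)
      have h' := (hnorm _).1 (hinX x⁻¹ (inv_mem hx))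
      rw [hgp, ← map_inv, ← map_mul, ← map_mul] at h h'
      refine ⟨(pair_mem_wr.1 h.1).1, ?_⟩
      have := (pair_mem_wr.1 h'.1).2
      simpa using this
    rw [Subgroup.mem_normalizer_iff_map_conj_eq]
    refine Subgroup.eq_of_le_of_card_ge ?_ (le_of_eq (Subgroup.card_map_of_injective
      (MulAut.conj gi).injective).symm)
    rintro _ ⟨x, hx, rfl⟩
    rcases hgi with rfl | rfl
    exacts [(key x hx).1, (key x hx).2]
  have hpow : (g1 ^ orderOf g = 1) ∧ (g2 ^ orderOf g = 1) := by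
    have h := pow_orderOf_eq_one g
    rw [hgp, ← map_pow, map_eq_one_iff _ pairHom_injective, Prod.pow_mk, Prod.mk_eq_one] at h
    rw [hgp]
    exact h
  have hodd : ∀ gi : GL ι F, gi ^ orderOf g = 1 → Odd (orderOf gi) := fun gi h =>
    ho.of_dvd_nat (orderOf_dvd_of_pow_eq_one h)
  obtain ⟨r1, hr1⟩ := hR g1 (hodd _ hpow.1) (hgi g1 (Or.inl rfl))
  obtain ⟨r2, hr2⟩ := hR g2 (hodd _ hpow.2) (hgi g2 (Or.inr rfl))
  have hswX : swapEl ι F ∈ X := ⟨⟨1, W.one_mem, 1, W.one_mem, Or.inr (by rw [hneg1, one_mul])⟩,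
    mem_detOne.2 (det_swapEl he)⟩
  have hcW : g1 * g2⁻¹ ∈ W := by
    have h := (hnorm _).1 hswX
    rw [hgp, ← map_inv, Prod.inv_mk, mul_assoc, swap_pair, ← mul_assoc, ← map_mul] at h
    obtain ⟨⟨a, ha, b, hb, h' | h'⟩, -⟩ := h
    · exact absurd h'.symm (pair_ne_pair_swap _ _ _ _)
    · have e := congrArg Prod.fst (pairHom_injective (mul_right_cancel h'))
      change g1 * g2⁻¹ = a at e
      rw [e]; exact ha
  have hc12 : Commute g1 g2⁻¹ := by
    have h1 : Commute g1 g2 := Units.ext (by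
      rw [Units.val_mul, Units.val_mul, hr1, hr2]; simp [smul_smul, mul_comm])
    exact h1.inv_right
  have heq : g1 = g2 := by
    obtain ⟨k, hk⟩ := hp ⟨_, hcW⟩
    have hk' : (g1 * g2⁻¹) ^ 2 ^ k = 1 := congrArg Subtype.val hk
    have hn' : (g1 * g2⁻¹) ^ orderOf g = 1 := by
      rw [hc12.mul_pow, hpow.1, inv_pow, hpow.2, inv_one, one_mul]
    have hcop : Nat.Coprime (2 ^ k) (orderOf g) := (Nat.coprime_two_left.2 ho).pow_left k
    have h1 := pow_gcd_eq_one.2 ⟨hk', hn'⟩
    rw [hcop.gcd_eq_one, pow_one] at h1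
    exact mul_inv_eq_one.1 h1
  refine ⟨r1, ?_⟩
  rw [hgp, pairHom_val, ← heq, hr1, ← fromBlocks_one, fromBlocks_smul]
  simp

end step

/-- A matrix commuting with two noncommuting 2 by 2 matrices is scalar. -/
theorem scalar_of_commute_two {M u v : Matrix (Fin 2) (Fin 2) F} (hu : M * u = u * M) (hv : M * v = v * M)
    (huv : u * v ≠ v * u) : ∃ a : F, M = a • (1 : Matrix (Fin 2) (Fin 2) F) := by
  have ext2 : ∀ A B : Matrix (Fin 2) (Fin 2) F, A 0 0 = B 0 0 → A 0 1 = B 0 1 → A 1 0 = B 1 0 →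
      A 1 1 = B 1 1 → A = B := by
    intro A B h1 h2 h3 h4
    ext i j
    fin_cases i <;> fin_cases j <;> assumption
  have u1 := congrFun (congrFun hu 0) 0
  have u2 := congrFun (congrFun hu 0) 1
  have u3 := congrFun (congrFun hu 1) 0
  have v1 := congrFun (congrFun hv 0) 0
  have v2 := congrFun (congrFun hv 0) 1
  have v3 := congrFun (congrFun hv 1) 0
  simp only [Matrix.mul_apply, Fin.sum_univ_two] at u1 u2 u3 v1 v2 v3
  by_cases hb : M 0 1 = 0
  · by_cases hc : M 1 0 = 0
    · by_cases hd : M 0 0 = M 1 1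
      · exact ⟨M 0 0, ext2 _ _ (by simp) (by simp [hb]) (by simp [hc]) (by simp [hd])⟩
      · have hd' : M 0 0 - M 1 1 ≠ 0 := sub_ne_zero.2 hd
        have a1 : u 0 1 = 0 := by
          apply mul_left_cancel₀ hd'
          linear_combination u2 + (u 0 0 - u 1 1) * hb
        have a2 : u 1 0 = 0 := by
          apply mul_left_cancel₀ hd'
          linear_combination -u3 + (u 0 0 - u 1 1) * hc
        have a3 : v 0 1 = 0 := by
          apply mul_left_cancel₀ hd'
          linear_combination v2 + (v 0 0 - v 1 1) * hb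
        have a4 : v 1 0 = 0 := by
          apply mul_left_cancel₀ hd'
          linear_combination -v3 + (v 0 0 - v 1 1) * hc
        refine absurd (ext2 _ _ ?_ ?_ ?_ ?_) huv <;>
          simp [Matrix.mul_apply, Fin.sum_univ_two, a1, a2, a3, a4, mul_comm]
    · have a1 : u 0 1 = 0 := by
        apply mul_left_cancel₀ hc
        linear_combination -u1 + u 1 0 * hb
      have a3 : v 0 1 = 0 := by
        apply mul_left_cancel₀ hc
        linear_combination -v1 + v 1 0 * hb
      refine absurd (ext2 _ _ ?_ ?_ ?_ ?_) huv <;> simp only [Matrix.mul_apply, Fin.sum_univ_two]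
      · simp [a1, a3, mul_comm]
      · simp [a1, a3, mul_comm]
      · apply mul_left_cancel₀ hc
        linear_combination u 1 0 * v3 - v 1 0 * u3
      · simp [a1, a3, mul_comm]
  · have hC1 : u 0 1 * v 1 0 - u 1 0 * v 0 1 = 0 := by
      apply mul_left_cancel₀ hb
      linear_combination u 0 1 * v1 - v 0 1 * u1
    have hC2 : (u 0 0 - u 1 1) * v 0 1 - u 0 1 * (v 0 0 - v 1 1) = 0 := by
      apply mul_left_cancel₀ hb
      linear_combination -v 0 1 * u2 + u 0 1 * v2
    refine absurd (ext2 _ _ ?_ ?_ ?_ ?_) huv <;> simp only [Matrix.mul_apply, Fin.sum_univ_two]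
    · linear_combination hC1
    · linear_combination hC2
    · apply mul_left_cancel₀ hb
      linear_combination (v 0 0 - v 1 1) * u1 - (u 0 0 - u 1 1) * v1 - M 1 0 * hC2
    · linear_combination -hC1

variable [Fintype F]

theorem good_two (hodd : Odd (Fintype.card F)) :
    ∃ W : Sylow 2 (GL (Fin 2) F), Good 1 (W : Subgroup (GL (Fin 2) F)) := by
  classical
  haveI : Fact (Nat.Prime 2) := ⟨Nat.prime_two⟩
  obtain ⟨φ, hφ, -⟩ := H40.exists_q8_hom (F := F) (H67.two_ne_zero_of_odd_card hodd)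
  obtain ⟨W, hW⟩ := ((H37.range_q8_isPGroup φ).map
    (SpecialLinearGroup.toGL : SpecialLinearGroup (Fin 2) F →* GL (Fin 2) F)).exists_le_sylow
  have hI : Irr (W : Subgroup (GL (Fin 2) F)) := by
    intro M hM
    have hmem : ∀ q, SpecialLinearGroup.toGL (φ q) ∈ (W : Subgroup (GL (Fin 2) F)) ⊓ detOne (Fin 2) F :=
      fun q => ⟨hW ⟨φ q, ⟨q, rfl⟩, rfl⟩, mem_detOne.2 (φ q).2⟩
    refine scalar_of_commute_two (hM _ (hmem (.a 1))) (hM _ (hmem (.xa 0))) fun h => ?_
    have h' : φ (.a 1) * φ (.xa 0) = φ (.xa 0) * φ (.a 1) := Subtype.ext h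
    rw [← map_mul, ← map_mul] at h'
    exact absurd (hφ h') (by decide +kernel)
  refine ⟨W, hI, ?_, fun h => absurd h (by norm_num)⟩
  obtain ⟨h3, h1⟩ := H67.gl2_sylow W
  have hrig : H89.OddRigid (W : Subgroup (GL (Fin 2) F)) := by
    have h4 : Fintype.card F % 4 = 3 ∨ Fintype.card F % 4 = 1 := by
      have := Nat.odd_iff.1 hodd
      omega
    rcases h4 with h | h
    · obtain ⟨n, x, y, hQ⟩ := H67.exists_QD (h3 h)
      exact H89.oddRigid_qd hQ
    · obtain ⟨n, x, y, z, hQ⟩ := H67.exists_WR (h1 h)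
      exact H89.oddRigid_wr hQ
  intro g ho hg
  have hc := H89.oddNormalizerTrivial_of_rigid hrig g hg (orderOf g) ho (pow_orderOf_eq_one g)
  refine hI _ fun c hc' => ?_
  rw [← Units.val_mul, ← Units.val_mul]
  exact congrArg Units.val (mul_inv_eq_iff_eq_mul.1 (hc c hc'.1))

theorem Good.sylow {ι : Type} [Fintype ι] [DecidableEq ι] {k : ℕ} {W : Subgroup (GL ι F)} {hp : IsPGroup 2 W}
    (hi : ¬ 2 ∣ W.index) (h : Good k W) (P : Sylow 2 (GL ι F)) : Good k (P : Subgroup (GL ι F)) := by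
  haveI : Fact (Nat.Prime 2) := ⟨Nat.prime_two⟩
  obtain ⟨g, hg⟩ := MulAction.exists_smul_eq (GL ι F) (hp.toSylow hi) P
  have := h.map (conjAlg g) (det_conjAlg g)
  rw [glMap_conjAlg] at this
  rw [← hg]
  exact this

theorem val_factorial_two_pow (j : ℕ) : (2 ^ j).factorial.factorization 2 + 1 = 2 ^ j := by
  haveI : Fact (Nat.Prime 2) := ⟨Nat.prime_two⟩
  induction j with
  | zero => simp
  | succ j ih =>
    rw [Nat.factorization_def _ Nat.prime_two, pow_succ', padicValNat_factorial_mul,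
      ← Nat.factorization_def _ Nat.prime_two]
    omega

theorem val_card_double (hodd : Odd (Fintype.card F)) (j : ℕ) :
    (Nat.card (GL (Fin (2 ^ (j + 2))) F)).factorization 2 =
      2 * (Nat.card (GL (Fin (2 ^ (j + 1))) F)).factorization 2 + 1 := by
  rw [H18.val_card_gl hodd, H18.val_card_gl hodd, show 2 ^ (j + 2) = 2 * 2 ^ (j + 1) by ring,
    H18.sum_val_all Fintype.one_lt_card hodd]
  conv_rhs => rw [show 2 ^ (j + 1) = 2 * 2 ^ j by ring, H18.sum_val_all Fintype.one_lt_card hodd]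
  have h1 := val_factorial_two_pow (j + 1)
  have h2 := val_factorial_two_pow j
  rw [pow_succ' 2 j] at h1 ⊢
  have h3 : (2 * 2 ^ j).factorial.factorization 2 = 2 * (2 ^ j).factorial.factorization 2 + 1 := by omega
  rw [h3]
  ring

theorem good_sylow (hodd : Odd (Fintype.card F)) :
    ∀ (k : ℕ) (P : Sylow 2 (GL (Fin (2 ^ (k + 1))) F)), Good (k + 1) (P : Subgroup (GL (Fin (2 ^ (k + 1))) F)) := by
  classical
  haveI : Fact (Nat.Prime 2) := ⟨Nat.prime_two⟩
  have h2 := H67.two_ne_zero_of_odd_card (F := F) hodd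
  intro k
  induction k with
  | zero =>
    intro P
    obtain ⟨W, hW⟩ := good_two (F := F) hodd
    exact Good.sylow (hp := W.2) W.not_dvd_index hW P
  | succ j ih =>
    intro P
    set ι := Fin (2 ^ (j + 1))
    let W : Sylow 2 (GL ι F) := default
    obtain ⟨hI, hR, -⟩ := ih W
    have h2j : 2 ≤ 2 ^ (j + 1) := Nat.le_self_pow (Nat.succ_ne_zero j) 2
    have he : Even (Fintype.card ι) := by
      rw [Fintype.card_fin]
      exact Nat.even_pow.2 ⟨even_two, Nat.succ_ne_zero j⟩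
    haveI : Nontrivial ι := Fin.nontrivial_iff_two_le.2 h2j
    have hneg := neg_one_mem_sylow W
    have hU : ∃ c ∈ (W : Subgroup (GL ι F)) ⊓ detOne ι F, c ≠ 1 ∧ c ≠ -1 := by
      by_contra hc
      push Not at hc
      obtain ⟨i, o, hio⟩ := exists_pair_ne ι
      obtain ⟨a, ha⟩ := hI (Matrix.single i o 1) fun c hcW => by
        by_cases h1 : c = 1
        · simp [h1]
        · rw [hc c hcW h1]; simp
      have := congrFun (congrFun ha i) o
      simp [hio] at this
    have hI' := irr_wr h2 he hI hneg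
    have hR' := rig_wr_aux h2 he hI hR W.2 hneg hU
    have hG : Good (j + 1 + 1) (wr (W : Subgroup (GL ι F))) := ⟨hI', Rig.of_detOne hR', fun _ => hR'⟩
    let f := Matrix.reindexAlgEquiv F F
      ((finSumFinEquiv (m := 2 ^ (j + 1)) (n := 2 ^ (j + 1))).trans
        (finCongr (show 2 ^ (j + 1) + 2 ^ (j + 1) = 2 ^ (j + 1 + 1) by ring)))
    have hG' := hG.map f (fun A => Matrix.det_reindexAlgEquiv F F _ A)
    set W2 := (wr (W : Subgroup (GL ι F))).map (glMap f).toMonoidHom
    have hc : Nat.card W2 = 2 ^ (Nat.card (GL (Fin (2 ^ (j + 1 + 1))) F)).factorization 2 := by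
      show Nat.card ((wr (W : Subgroup (GL ι F))).map (glMap f).toMonoidHom) = _
      rw [Subgroup.card_map_of_injective (f := (glMap f).toMonoidHom) (glMap f).injective, card_wr, W.card_eq_multiplicity,
        val_card_double hodd j]
      ring
    exact Good.sylow (hp := IsPGroup.of_card hc) ((Sylow.ofCard W2 hc).not_dvd_index) hG' P

end H39.Wr
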