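import Mathlib
import Cfsg.Agent.H36.Pronormal
import Cfsg.Agent.H39.SolubilizerThree
import Cfsg.Agent.H39.SylowWreath
import Cfsg.Agent.H39.BruhatOvergroup

/-!
Subgroups of odd index in `PSL₂(q)`, `q ≡ ±3 (mod 8)`, and of `SL_{2^w}(q)` are pronormal.
-/

set_option autoImplicit false
set_option maxHeartbeats 800000

namespace H39

open Subgroup
open H73 (cj cj_cj cj_mono cj_one mem_cj cj_of_mem)

section generic

variable {G : Type*} [Group G] [Finite G]

/-- Pronormality of an overgroup of a Sylow subgroup reduces to its normalizer. -/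
theorem pronormal_of_key {p : ℕ} [Fact p.Prime] {H : Subgroup G} (S : Sylow p G) (hSH : (S : Subgroup G) ≤ H)
    (key : ∀ c ∈ normalizer ((S : Subgroup G) : Set G), ∃ x ∈ H ⊔ cj c H, cj c H = cj x H) :
    Cfsg.IsPronormal H := by
  intro g
  set J := H ⊔ cj g H with hJ
  have hsyl : H73.SylIn p (S : Subgroup G) J :=
    ⟨hSH.trans le_sup_left, S.isPGroup', fun h =>
      S.not_dvd_index (h.trans (relIndex_dvd_index_of_le (hSH.trans le_sup_left)))⟩
  obtain ⟨y, hy, hyS⟩ := hsyl.exists_conj_le (P := cj g (S : Subgroup G)) (S.isPGroup'.map _)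
    ((cj_mono hSH).trans le_sup_right)
  rw [cj_cj] at hyS
  have hc : y * g ∈ normalizer ((S : Subgroup G) : Set G) :=
    H73.mem_normalizer_iff_cj.mpr (eq_of_le_of_card_ge hyS (H73.card_cj _ _).ge)
  obtain ⟨x, hx, he⟩ := key _ hc
  have hle : H ⊔ cj (y * g) H ≤ J := sup_le le_sup_left (by
    rw [← cj_cj]
    exact H73.cj_le_of_mem hy le_sup_right)
  refine ⟨y⁻¹ * x, J.mul_mem (J.inv_mem hy) (hle hx), ?_⟩
  show cj g H = cj (y⁻¹ * x) H
  rw [← cj_cj, ← he, cj_cj, inv_mul_cancel_left]

theorem pronormal_of_normalizer_le {p : ℕ} [Fact p.Prime] {H : Subgroup G} (S : Sylow p G)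
    (hSH : (S : Subgroup G) ≤ H) (h : normalizer ((S : Subgroup G) : Set G) ≤ normalizer (H : Set G)) :
    Cfsg.IsPronormal H :=
  pronormal_of_key S hSH fun c hc => ⟨1, one_mem _, by rw [cj_one, H73.mem_normalizer_iff_cj.1 (h hc)]⟩

/-- Elements of a self-centralizing abelian Sylow subgroup are not conjugate. -/
theorem eq_of_conj_of_self_normalizing {p : ℕ} [Fact p.Prime] (P : Sylow p G)
    (hN : normalizer ((P : Subgroup G) : Set G) ≤ centralizer ((P : Subgroup G) : Set G))
    {u v g : G} (hu : u ∈ (P : Subgroup G)) (hv : v ∈ (P : Subgroup G)) (h : g * u * g⁻¹ = v) : u = v := by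
  haveI : Subgroup.FiniteIndex (P : Subgroup G) := inferInstance
  have hc := MonoidHom.ker_transferSylow_isComplement' P hN
  set f := MonoidHom.transferSylow P hN
  have hf : f u = f v := by
    rw [← h, map_mul, map_mul, map_inv]
    have hcm : ∀ a b : (P : Subgroup G), a * b = b * a := fun a b =>
      Subtype.ext (Subgroup.mem_centralizer_iff.1 (hN (Subgroup.le_normalizer b.2)) a a.2)
    rw [hcm (f g) (f u), mul_inv_cancel_right]
  have hm : u * v⁻¹ ∈ f.ker ⊓ (P : Subgroup G) :=
    ⟨(show f (u * v⁻¹) = 1 by rw [map_mul, map_inv, hf, mul_inv_cancel]),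
      (P : Subgroup G).mul_mem hu ((P : Subgroup G).inv_mem hv)⟩
  rw [hc.disjoint.eq_bot, Subgroup.mem_bot] at hm
  exact mul_inv_eq_one.1 hm

theorem false_of_conj_invol {K A : Type*} [Group K] [Group A] (e : K ≃* A) {t s : K} (ht : t * t = 1)
    (hs : s * s = 1) (t1 : t ≠ 1) (s1 : s ≠ 1) (hn : ¬ ∃ g : K, g * t * g⁻¹ = s)
    (h : ∀ a b : A, a * a = 1 → a ≠ 1 → b * b = 1 → b ≠ 1 → ∃ g : A, g * a * g⁻¹ = b) : False := by
  obtain ⟨g, hg⟩ := h (e t) (e s) (by rw [← map_mul, ht, map_one])
    (fun h => t1 (e.injective (h.trans (map_one e).symm))) (by rw [← map_mul, hs, map_one])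
    (fun h => s1 (e.injective (h.trans (map_one e).symm)))
  refine hn ⟨e.symm g, e.injective ?_⟩
  rw [map_mul, map_mul, map_inv, e.apply_symm_apply, hg]

theorem subgroup_eq_of_card_cyclic {C : Type*} [Group C] [Finite C] [IsCyclic C] {A B : Subgroup C}
    (h : Nat.card A = Nat.card B) : A = B := by
  classical
  haveI := Fintype.ofFinite C
  have key : ∀ D : Subgroup C, Nat.card D = Nat.card A →
      (D : Set C).toFinset = Finset.univ.filter fun x : C => x ^ Nat.card A = 1 := by
    intro D hD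
    refine Finset.eq_of_subset_of_card_le ?_ ((IsCyclic.card_pow_eq_one_le (Nat.card_pos)).trans ?_)
    · intro x hx
      rw [Set.mem_toFinset, SetLike.mem_coe] at hx
      simp only [Finset.mem_filter, Finset.mem_univ, true_and]
      rw [← hD]
      exact congrArg Subtype.val (pow_card_eq_one' (x := (⟨x, hx⟩ : D)))
    · rw [← hD]
      exact (Nat.card_eq_card_toFinset (D : Set C)).le
  apply SetLike.coe_injective
  rw [← Set.toFinset_inj, key A rfl, key B h.symm]

/-- In a dihedral group, overgroups of a reflection are determined by their orders. -/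
theorem dihedral_eq_of_card {k : ℕ} [NeZero k] {A B : Subgroup (DihedralGroup k)} {i : ZMod k}
    (hA : DihedralGroup.sr i ∈ A) (hB : DihedralGroup.sr i ∈ B) (h : Nat.card A = Nat.card B) : A = B := by
  set R := Subgroup.zpowers (DihedralGroup.r (1 : ZMod k)) with hR
  have hr : ∀ j : ZMod k, DihedralGroup.r j ∈ R := fun j =>
    ⟨j.val, by simp⟩
  have hsR : ∀ j : ZMod k, DihedralGroup.sr j ∉ R := by
    rintro j ⟨m, hm⟩
    rcases m with m | m
    · simp at hm
    · simp at hm
  have hsplit : ∀ D : Subgroup (DihedralGroup k), DihedralGroup.sr i ∈ D →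
      Nat.card D = 2 * Nat.card (D.subgroupOf R) ∧ ∀ x, x ∈ D ↔ x ∈ (D ⊓ R) ∨ DihedralGroup.sr i * x ∈ (D ⊓ R) := by
    intro D hD
    have hcase : ∀ x, x ∈ D ↔ x ∈ (D ⊓ R) ∨ DihedralGroup.sr i * x ∈ (D ⊓ R) := by
      intro x
      constructor
      · intro hx
        cases x with
        | r j => exact Or.inl ⟨hx, hr j⟩
        | sr j => exact Or.inr ⟨mul_mem hD hx, by rw [DihedralGroup.sr_mul_sr]; exact hr _⟩
      · rintro (h | h)
        · exact h.1
        · have := mul_mem (inv_mem hD) h.1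
          rwa [inv_mul_cancel_left] at this
    refine ⟨?_, hcase⟩
    have hi : (R.subgroupOf D).index = 2 := by
      rw [Subgroup.index_eq_two_iff]
      refine ⟨⟨_, hD⟩, fun x => ?_⟩
      rcases x with ⟨x, hx⟩
      simp only [Subgroup.mem_subgroupOf, MulMemClass.mk_mul_mk]
      cases x with
      | r j => exact Or.inr ⟨hr j, by rw [DihedralGroup.r_mul_sr]; exact hsR _⟩
      | sr j => exact Or.inl ⟨by rw [DihedralGroup.sr_mul_sr]; exact hr _, hsR _⟩
    have e := (R.subgroupOf D).card_mul_index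
    rw [hi] at e
    rw [← e, mul_comm]
    congr 1
    exact Nat.card_congr
      { toFun := fun x => ⟨⟨x.1.1, x.2⟩, x.1.2⟩
        invFun := fun x => ⟨⟨x.1.1, x.2⟩, x.1.2⟩
        left_inv := fun _ => rfl
        right_inv := fun _ => rfl }
  obtain ⟨a1, a2⟩ := hsplit A hA
  obtain ⟨b1, b2⟩ := hsplit B hB
  have he : A.subgroupOf R = B.subgroupOf R := subgroup_eq_of_card_cyclic (by omega)
  have hinf : ∀ x, x ∈ A ⊓ R ↔ x ∈ B ⊓ R := fun x =>
    and_congr_left fun hx => by
      have := SetLike.ext_iff.1 he ⟨x, hx⟩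
      simpa [Subgroup.mem_subgroupOf] using this
  ext x
  rw [a2 x, b2 x, hinf, hinf]

end generic

variable {F : Type*} [Field F] [Fintype F]

local notation "G2" => Matrix.ProjectiveSpecialLinearGroup (Fin 2) F
local notation "qq" => Fintype.card F
local notation "dq" => Nat.gcd 2 (Fintype.card F - 1)
local notation "mq" => evenHalf (Fintype.card F)

theorem alt4_invol_conj : ∀ a b : alternatingGroup (Fin 4), a * a = 1 → a ≠ 1 → b * b = 1 → b ≠ 1 →
    ∃ g : alternatingGroup (Fin 4), g * a * g⁻¹ = b := by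
  decide +kernel

theorem alt5_invol_conj : ∀ a b : alternatingGroup (Fin 5), a * a = 1 → a ≠ 1 → b * b = 1 → b ≠ 1 →
    ∃ g : alternatingGroup (Fin 5), g * a * g⁻¹ = b := by
  decide +kernel

theorem pronormal_psl2_pm3 (h8 : qq % 8 = 3 ∨ qq % 8 = 5) (H : Subgroup G2) (hH : Odd H.index) :
    Cfsg.IsPronormal H := by
  classical
  haveI : Fact (Nat.Prime 2) := ⟨Nat.prime_two⟩
  obtain ⟨p, hcp⟩ := CharP.exists F
  haveI := hcp
  haveI : Fact p.Prime := ⟨CharP.char_is_prime F p⟩
  have hodd : Odd qq := Nat.odd_iff.2 (by omega)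
  have hd := gcd_eq_two hodd
  have h4 : ¬ 4 ∣ mq := by
    unfold evenHalf
    split_ifs <;> omega
  have hGc := card_G2_eq (F := F)
  rw [hd] at hGc
  have h8G : ¬ 8 ∣ Nat.card G2 := by
    intro h
    rw [hGc] at h
    obtain ⟨t, ht⟩ : ∃ t, (qq - 1) * (qq + 1) = 16 * t + 8 := by
      rcases h8 with e | e
      · obtain ⟨u, hu⟩ : ∃ u, qq = 8 * u + 3 := ⟨qq / 8, by omega⟩
        exact ⟨4 * u ^ 2 + 3 * u, by rw [hu, show 8 * u + 3 - 1 = 8 * u + 2 by omega]; ring⟩
      · obtain ⟨u, hu⟩ : ∃ u, qq = 8 * u + 5 := ⟨qq / 8, by omega⟩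
        exact ⟨4 * u ^ 2 + 5 * u + 1, by rw [hu, show 8 * u + 5 - 1 = 8 * u + 4 by omega]; ring⟩
    have h2 : 2 * ((qq - 1) / 2) = qq - 1 := by omega
    have h16 : 16 ∣ qq * ((qq - 1) * (qq + 1)) := by
      obtain ⟨r, hr⟩ := h
      refine ⟨r, ?_⟩
      calc qq * ((qq - 1) * (qq + 1)) = 2 * (qq * ((qq - 1) / 2) * (qq + 1)) := by
            conv_lhs => rw [← h2]
            ring
        _ = 16 * r := by rw [hr]; ring
    rw [ht] at h16
    have := (Nat.Coprime.pow_left 4 (Nat.coprime_two_left.2 hodd) : Nat.Coprime (2 ^ 4) qq).dvd_of_dvd_mul_left h16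
    omega
  obtain ⟨S, hSH⟩ := (H36.exists_sylow_le_iff H).2 (fun h => (Nat.not_even_iff_odd.2 hH) (even_iff_two_dvd.2 h))
  -- the Sylow 2-subgroups are Klein four groups
  have hV : IsKleinFour (S : Subgroup G2) := by
    have hex : ∃ V : Subgroup G2, IsKleinFour V := by
      have h := card_klein p hodd (F := F)
      by_contra hne
      push Not at hne
      haveI : IsEmpty {V : Subgroup G2 // IsKleinFour V} := ⟨fun V => hne V.1 V.2⟩
      rw [Nat.card_of_isEmpty, mul_zero] at h
      exact Nat.card_pos.ne' h.symm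
    obtain ⟨V, hV⟩ := hex
    have hVp : IsPGroup 2 V := IsPGroup.of_card (n := 2) (by rw [hV.card_four]; rfl)
    have hidx : ¬ 2 ∣ V.index := fun h => h8G (by
      rw [← V.card_mul_index, hV.card_four]
      exact mul_dvd_mul_left 4 h)
    obtain ⟨g, hg⟩ := MulAction.exists_smul_eq G2 (hVp.toSylow hidx) S
    rw [← hg]
    exact isKleinFour_map hV g
  refine pronormal_of_key S hSH fun c hc => ?_
  set V := (S : Subgroup G2) with hVdef
  set K := H ⊔ cj c H with hK
  have hVK : V ≤ K := hSH.trans le_sup_left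
  by_cases hcK : c ∈ K
  · exact ⟨c, hcK, rfl⟩
  -- inside `K`, the group `V` is its own normalizer
  set N := normalizer (V : Set G2)
  have hNc : Nat.card N = 12 := by rw [card_normalizer_klein p hodd hV, if_neg h4]
  have hNK : N ⊓ K ≤ V := by
    have hsub : V ≤ N ⊓ K := le_inf le_normalizer hVK
    have h1 : Nat.card (N ⊓ K : Subgroup G2) ∣ 12 := hNc ▸ card_dvd_of_le inf_le_left
    have h2 : 4 ∣ Nat.card (N ⊓ K : Subgroup G2) := hV.card_four ▸ card_dvd_of_le hsub
    by_contra hle
    have h3 : Nat.card (N ⊓ K : Subgroup G2) ≠ 4 := fun e =>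
      hle (eq_of_le_of_card_ge hsub (by rw [e, hV.card_four])).ge
    have h4' : Nat.card (N ⊓ K : Subgroup G2) = 12 := by
      obtain ⟨a, ha⟩ := h2
      rw [ha] at h1 h3 ⊢
      have := Nat.le_of_dvd (by norm_num) h1
      have h0 : 4 * a ≠ 0 := fun h => by rw [h] at h1; norm_num at h1
      have : a = 2 ∨ a = 3 := by omega
      rcases this with rfl | rfl
      · norm_num at h1
      · rfl
    exact hcK ((eq_of_le_of_card_ge (inf_le_left : N ⊓ K ≤ N) (by rw [h4', hNc])).ge hc).2
  let P : Sylow 2 K := S.subtype hVK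
  have hPc : ∀ x : K, x ∈ (P : Subgroup K) ↔ (x : G2) ∈ V := fun x => Iff.rfl
  have hcomm : normalizer ((P : Subgroup K) : Set K) ≤ centralizer ((P : Subgroup K) : Set K) := by
    intro x hx
    have hxN : (x : G2) ∈ N := by
      rw [mem_normalizer_iff]
      intro v
      constructor
      · intro hv
        exact (hPc _).1 ((mem_normalizer_iff.1 hx ⟨v, hVK hv⟩).1 ((hPc _).2 hv))
      · intro hv
        have hvK : v ∈ K := by
          have := mul_mem (mul_mem (inv_mem x.2) (hVK hv)) x.2
          simpa [mul_assoc] using this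
        exact (hPc _).1 ((mem_normalizer_iff.1 hx ⟨v, hvK⟩).2 ((hPc _).2 hv))
    refine Subgroup.mem_centralizer_iff.2 ?_
    intro u hu
    exact Subtype.ext (klein_comm hV ((hPc u).1 hu) (hNK ⟨hxN, x.2⟩))
  have hnf : ∀ a b : K, a * a = 1 → b * b = 1 → (a : G2) ∈ V → (b : G2) ∈ V → a ≠ b →
      ¬ ∃ g : K, g * a * g⁻¹ = b := fun a b _ _ ha hb hne ⟨g, hg⟩ =>
    hne (eq_of_conj_of_self_normalizing P hcomm ((hPc a).2 ha) ((hPc b).2 hb) hg)
  -- two distinct involutions of `V`
  obtain ⟨t, htV, t1, -⟩ := exists_klein_nontriv p hV 1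
  obtain ⟨s, hsV, s1, st⟩ := exists_klein_nontriv p hV t
  let t' : K := ⟨t, hVK htV⟩
  let s' : K := ⟨s, hVK hsV⟩
  have htt : t' * t' = 1 := Subtype.ext (klein_mul_self hV htV)
  have hss : s' * s' = 1 := Subtype.ext (klein_mul_self hV hsV)
  have ht1 : t' ≠ 1 := fun e => t1 (congrArg Subtype.val e)
  have hs1 : s' ≠ 1 := fun e => s1 (congrArg Subtype.val e)
  have hts : t' ≠ s' := fun e => st (congrArg Subtype.val e).symm
  have hn : ¬ ∃ g : K, g * t' * g⁻¹ = s' := hnf t' s' htt hss htV hsV hts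
  refine ⟨1, one_mem _, ?_⟩
  rw [cj_one]
  cases dickson p K with
  | cyclic hcy hk =>
    exfalso
    haveI := hcy
    have hle : Nat.card (V.subgroupOf K) = 4 := (isKleinFour_subgroupOf hV hVK).card_four
    haveI : IsCyclic V := isCyclic_of_injective (Subgroup.inclusion hVK) (Subgroup.inclusion_injective _)
    exact IsKleinFour.not_isCyclic (G := V) inferInstance
  | dihedral k e hk =>
    obtain ⟨e⟩ := e
    have hk0 : NeZero k := ⟨by
      rintro rfl
      haveI : Finite (DihedralGroup 0) := Finite.of_equiv _ e.toEquiv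
      exact not_finite (DihedralGroup 0)⟩
    have hrefl : ∃ u : K, (u : G2) ∈ V ∧ ∃ i, e u = DihedralGroup.sr i := by
      by_contra hne
      push Not at hne
      have hr : ∀ u : K, (u : G2) ∈ V → ∃ i, e u = DihedralGroup.r i := by
        intro u hu
        cases hu' : e u with
        | r i => exact ⟨i, rfl⟩
        | sr i => exact absurd hu' (hne u hu i)
      obtain ⟨a, ha⟩ := hr t' htV
      obtain ⟨b, hb⟩ := hr s' hsV
      have ha2 : a + a = 0 := by
        have := congrArg e htt
        rw [map_mul, ha, map_one, DihedralGroup.r_mul_r, DihedralGroup.one_def, DihedralGroup.r.injEq] at this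
        exact this
      have hb2 : b + b = 0 := by
        have := congrArg e hss
        rw [map_mul, hb, map_one, DihedralGroup.r_mul_r, DihedralGroup.one_def, DihedralGroup.r.injEq] at this
        exact this
      have ha0 : a ≠ 0 := fun h => ht1 (e.injective (by rw [ha, h, map_one]; rfl))
      have hb0 : b ≠ 0 := fun h => hs1 (e.injective (by rw [hb, h, map_one]; rfl))
      refine hts (e.injective ?_)
      rw [ha, hb]
      congr 1
      haveI : NeZero k := hk0
      have key : ∀ z : ZMod k, z + z = 0 → z ≠ 0 → 2 * z.val = k := by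
        intro z hz hz0
        have h1 : k ∣ 2 * z.val := by
          rw [← ZMod.natCast_eq_zero_iff, Nat.cast_mul, ZMod.natCast_zmod_val, Nat.cast_two, two_mul, hz]
        have := z.val_lt
        have : z.val ≠ 0 := fun h => hz0 ((ZMod.val_eq_zero z).1 h)
        obtain ⟨m, hm⟩ := h1
        have : m = 1 := by
          by_contra hm1
          rcases Nat.lt_or_ge m 2 with h2 | h2
          · interval_cases m <;> omega
          · have := Nat.mul_le_mul_left k h2
            omega
        rw [hm, this, mul_one]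
      apply ZMod.val_injective
      have := key a ha2 ha0
      have := key b hb2 hb0
      omega
    obtain ⟨u, huV, i, hui⟩ := hrefl
    have hcH : V ≤ cj c H := (H73.mem_normalizer_iff_cj.1 hc).ge.trans (cj_mono hSH)
    have hHK : H ≤ K := le_sup_left
    have hcK' : cj c H ≤ K := le_sup_right
    have h1 : (H.subgroupOf K).map e.toMonoidHom = ((cj c H).subgroupOf K).map e.toMonoidHom := by
      refine dihedral_eq_of_card (i := i) ⟨u, hSH huV, hui⟩ ⟨u, hcH huV, hui⟩ ?_
      rw [Subgroup.card_map_of_injective (f := e.toMonoidHom) e.injective,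
        Subgroup.card_map_of_injective (f := e.toMonoidHom) e.injective,
        Nat.card_congr (subgroupOfEquivOfLe hHK).toEquiv, Nat.card_congr (subgroupOfEquivOfLe hcK').toEquiv,
        H73.card_cj]
    have h2 := congrArg (Subgroup.map K.subtype) (Subgroup.map_injective (f := e.toMonoidHom) e.injective h1)
    rw [map_subgroupOf_eq_of_le hHK, map_subgroupOf_eq_of_le hcK'] at h2
    exact h2.symm
  | borel Q hle hz =>
    exfalso
    have h1 := card_dvd_of_le hle
    rw [Subgroup.card_map_of_injective (f := (cjP Q).toMonoidHom) (cjP Q).injective, card_borelP, hd] at h1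
    have h2 : 4 ∣ qq * ((qq - 1) / 2) := (hV.card_four ▸ card_dvd_of_le hVK).trans h1
    have := (Nat.Coprime.pow_left 2 (Nat.coprime_two_left.2 hodd) : Nat.Coprime (2 ^ 2) qq).dvd_of_dvd_mul_left h2
    omega
  | a4 e => exact (false_of_conj_invol e.some htt hss ht1 hs1 hn alt4_invol_conj).elim
  | s4 e =>
    exfalso
    apply h8G
    have := K.card_subgroup_dvd_card
    rw [Nat.card_congr e.some.toEquiv, Nat.card_perm, Nat.card_fin] at this
    exact (show 8 ∣ Nat.factorial 4 by decide).trans this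
  | a5 e => exact (false_of_conj_invol e.some htt hss ht1 hs1 hn alt5_invol_conj).elim
  | field Q L hle he =>
    exfalso
    haveI : CharP L p := Subfield.charP L p
    haveI : Fintype L := Fintype.ofFinite _
    rcases he with e | e
    · apply h8G
      have := K.card_subgroup_dvd_card
      rw [Nat.card_congr e.some.toEquiv, H42.card_PGL2_subfield] at this
      refine (dvd_mul_of_dvd_right ?_ _).trans this
      have hLodd : Odd (Nat.card L) := by
        obtain ⟨j, -, hj⟩ := FiniteField.card L p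
        obtain ⟨i, -, hi⟩ := FiniteField.card F p
        rw [Nat.card_eq_fintype_card, hj]
        refine Odd.pow ?_
        rw [hi, Nat.odd_pow_iff] at hodd
        · exact hodd
        · exact i.ne_zero
      obtain ⟨r, hr⟩ := hLodd
      rw [hr, show (2 * r + 1) ^ 2 - 1 = 4 * (r * (r + 1)) from Nat.sub_eq_of_eq_add (by ring)]
      exact mul_dvd_mul (dvd_refl 4) (Nat.even_mul_succ_self r).two_dvd
    · refine false_of_conj_invol e.some htt hss ht1 hs1 hn fun a b ha a1 hb b1 => ?_
      obtain ⟨g, hg⟩ := isConj_iff.1 (invol_isConj p (F := L)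
        (orderOf_eq_prime (by rw [sq, ha]) a1) (orderOf_eq_prime (by rw [sq, hb]) b1))
      exact ⟨g, hg⟩

/-- `SL_{2^w}(q)`, `q` odd, `w ≥ 2`: the Sylow 2-subgroups are self-normalizing. -/
theorem sylow_SL_self_normalizing (hodd : Odd qq) (w : ℕ) (hw : 2 ≤ w)
    (S : Sylow 2 (Matrix.SpecialLinearGroup (Fin (2 ^ w)) F)) :
    normalizer ((S : Subgroup (Matrix.SpecialLinearGroup (Fin (2 ^ w)) F)) :
        Set (Matrix.SpecialLinearGroup (Fin (2 ^ w)) F)) =
      (S : Subgroup (Matrix.SpecialLinearGroup (Fin (2 ^ w)) F)) := by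
  classical
  haveI : Fact (Nat.Prime 2) := ⟨Nat.prime_two⟩
  obtain ⟨k, rfl⟩ : ∃ k, w = k + 1 := ⟨w - 1, by omega⟩
  set ι := Fin (2 ^ (k + 1))
  let f := (Matrix.SpecialLinearGroup.toGL : Matrix.SpecialLinearGroup ι F →* GL ι F)
  have hf : Function.Injective f := Matrix.SpecialLinearGroup.toGL_injective
  obtain ⟨P, hP⟩ := (S.isPGroup'.map f).exists_le_sylow
  have hrange : ∀ x : GL ι F, x ∈ Wr.detOne ι F → x ∈ f.range := fun x hx =>
    ⟨⟨(x : Matrix ι ι F), Wr.mem_detOne.1 hx⟩, Units.ext rfl⟩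
  have hmap : (S : Subgroup (Matrix.SpecialLinearGroup ι F)).map f = (P : Subgroup (GL ι F)) ⊓ Wr.detOne ι F := by
    refine le_antisymm (le_inf hP ?_) ?_
    · rintro _ ⟨x, -, rfl⟩
      exact Wr.mem_detOne.2 x.2
    · intro x hx
      obtain ⟨y, rfl⟩ := hrange x hx.2
      refine ⟨y, ?_, rfl⟩
      have hp : IsPGroup 2 ((P : Subgroup (GL ι F)).comap f) := P.isPGroup'.comap_of_injective f hf
      have := S.is_maximal' hp (fun z hz => hP ⟨z, hz, rfl⟩)
      exact this.le hx.1
  obtain ⟨-, -, hrig⟩ := Wr.good_sylow hodd k P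
  have hcent : ∀ g ∈ normalizer ((S : Subgroup (Matrix.SpecialLinearGroup ι F)) : Set (Matrix.SpecialLinearGroup ι F)),
      Odd (orderOf g) → g = 1 := by
    intro g hg ho
    have hgn : f g ∈ normalizer (((P : Subgroup (GL ι F)) ⊓ Wr.detOne ι F : Subgroup (GL ι F)) : Set (GL ι F)) := by
      rw [← hmap]
      exact le_normalizer_map f ⟨g, hg, rfl⟩
    obtain ⟨a, ha⟩ := hrig hw (f g) (by rwa [orderOf_injective f hf]) hgn
    have hdet : a ^ 2 ^ (k + 1) = 1 := by
      have := g.2
      rw [show (g : Matrix ι ι F) = a • 1 from ha, Matrix.det_smul, Matrix.det_one, mul_one,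
        Fintype.card_fin] at this
      exact this
    have hg2 : g ^ 2 ^ (k + 1) = 1 := by
      apply Subtype.ext
      rw [Matrix.SpecialLinearGroup.coe_pow, show (g : Matrix ι ι F) = a • 1 from ha, smul_pow, one_pow,
        hdet, one_smul]
      rfl
    have hd := orderOf_dvd_of_pow_eq_one hg2
    exact orderOf_eq_one_iff.1 (((Nat.coprime_two_right.2 ho).pow_right (k + 1)).eq_one_of_dvd hd)
  refine le_antisymm ?_ le_normalizer
  -- the normalizer has no elements of odd prime order
  set N := normalizer ((S : Subgroup (Matrix.SpecialLinearGroup ι F)) : Set (Matrix.SpecialLinearGroup ι F))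
  have hN : IsPGroup 2 N := by
    rw [IsPGroup.iff_card]
    refine ⟨_, Nat.eq_prime_pow_of_unique_prime_dvd Nat.card_pos.ne' fun {r} hr hd => ?_⟩
    by_contra hr2
    haveI : Fact r.Prime := ⟨hr⟩
    obtain ⟨g, hg⟩ := exists_prime_orderOf_dvd_card' r hd
    have := hcent g g.2 (by
      rw [Subgroup.orderOf_coe, hg]
      exact hr.odd_of_ne_two hr2)
    rw [show g = 1 from Subtype.ext this, orderOf_one] at hg
    exact hr.one_lt.ne hg
  exact (S.is_maximal' hN le_normalizer).le

end H39
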