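import Mathlib
import Cfsg.Agent.H39.Solubilizer

/-!
Solubilizers of elements of order dividing `q - 1` in minimal simple `PSL₂(q)`.
-/

set_option autoImplicit false
set_option maxHeartbeats 800000

namespace H39

open Matrix
open scoped MatrixGroups

variable {F : Type*} [Field F] [Fintype F]

local notation "G2" => Matrix.ProjectiveSpecialLinearGroup (Fin 2) F
local notation "qq" => Fintype.card F
local notation "dq" => Nat.gcd 2 (Fintype.card F - 1)

/-- The swap matrix. -/
def swapGL : GL (Fin 2) F :=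
  ⟨!![0, 1; 1, 0], !![0, 1; 1, 0], by ext i j; fin_cases i <;> fin_cases j <;> simp,
    by ext i j; fin_cases i <;> fin_cases j <;> simp⟩

omit [Fintype F] in
theorem swap_mem_borelP {Y : SL(2, F)} : cjP swapGL (proj Y) ∈ borelP ↔ Y 0 1 = 0 := by
  rw [cjP_proj, proj_mem_borelP]
  show (((!![0, 1; 1, 0] : Matrix (Fin 2) (Fin 2) F) * (Y : Matrix (Fin 2) (Fin 2) F) *
    (!![0, 1; 1, 0] : Matrix (Fin 2) (Fin 2) F)) : Matrix (Fin 2) (Fin 2) F) 1 0 = 0 ↔ _
  simp [Matrix.mul_apply, Matrix.vecMul, dotProduct, Fin.sum_univ_two]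

variable (p : ℕ) [Fact p.Prime] [CharP F p]

include p

theorem dvd_minus_ss {x : G2} (hx1 : x ≠ 1) (hx2 : orderOf x ≠ 2) (hx : orderOf x ∣ qq - 1) :
    x ^ p ≠ 1 ∧ Nat.card (tor x) = (qq - 1) / dq := by
  obtain ⟨n, hp, hn⟩ := FiniteField.card F p
  have hq1 := Fintype.one_lt_card (α := F)
  have hxp : x ^ p ≠ 1 := by
    intro h
    rw [orderOf_eq_prime h hx1] at hx
    have h1 : p ∣ qq - 1 + 1 := by rw [Nat.sub_add_cancel hq1.le, hn]; exact dvd_pow_self p n.ne_zero
    rw [Nat.dvd_add_right hx] at h1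
    exact hp.not_dvd_one h1
  refine ⟨hxp, (tor_trichotomy p hxp).1.resolve_left fun h => ?_⟩
  have h1 : orderOf x ∣ qq + 1 :=
    ((Subgroup.orderOf_dvd_natCard _ (self_mem_tor x)).trans (dvd_of_eq h)).trans
      (Nat.div_dvd_of_dvd gcd_dvd_add_one)
  have h2 := Nat.dvd_sub h1 hx
  rw [show qq + 1 - (qq - 1) = 2 by omega] at h2
  rcases (Nat.dvd_prime Nat.prime_two).1 h2 with e | e
  · exact hx1 (orderOf_eq_one_iff.1 e)
  · exact hx2 e

omit p [Fact p.Prime] [CharP F p] in
/-- An element of the split torus of order at least three. -/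
theorem exists_diag_order (hq : qq ≠ 2 ∧ qq ≠ 3 ∧ qq ≠ 5) :
    ∃ a : Fˣ, orderOf (proj (diagSL a)) ∣ qq - 1 ∧ proj (diagSL a) * proj (diagSL a) ≠ (1 : G2) ∧
      proj (diagSL a) ≠ (1 : G2) ∧ ∀ g : SL(2, F), Commute g (diagSL a) → g 0 1 = 0 ∧ g 1 0 = 0 := by
  classical
  obtain ⟨a, ha⟩ := IsCyclic.exists_generator (α := Fˣ)
  have hoa : orderOf a = qq - 1 := by
    rw [orderOf_eq_card_of_forall_mem_zpowers ha, Nat.card_units, Nat.card_eq_fintype_card]
  let f : Fˣ →* G2 := proj.comp
    ⟨⟨diagSL, by ext i j; fin_cases i <;> fin_cases j <;> simp [diagSL]⟩, diagSL_mul⟩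
  have h4 : (a : F) ^ 4 ≠ 1 := by
    intro h
    have h' : a ^ 4 = 1 := Units.ext (by simpa using h)
    have hd := orderOf_dvd_of_pow_eq_one h'
    rw [hoa] at hd
    have := Nat.le_of_dvd (by norm_num) hd
    have hq1 := Fintype.one_lt_card (α := F)
    rcases (show qq = 4 by
      rcases (show qq - 1 = 1 ∨ qq - 1 = 2 ∨ qq - 1 = 3 ∨ qq - 1 = 4 by omega) with e | e | e | e <;>
        omega) with e
    rw [e] at hd
    norm_num at hd
  have h2 : (a : F) ^ 2 ≠ 1 := fun h => h4 (by rw [show (a : F) ^ 4 = ((a : F) ^ 2) ^ 2 by ring, h, _root_.one_pow])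
  have hne : ∀ b : Fˣ, (b : F) ^ 2 ≠ 1 → proj (diagSL b) ≠ (1 : G2) := by
    intro b hb e
    rw [proj_eq_one_iff, mem_center_iff_isScalar2] at e
    have e2 : (b : F) = ((b⁻¹ : Fˣ) : F) := e.2.2
    apply hb
    rw [sq]
    nth_rw 2 [e2]
    exact b.mul_inv
  refine ⟨a, (orderOf_map_dvd f a).trans (dvd_of_eq hoa), ?_, hne a h2, ?_⟩
  · rw [← map_mul, ← diagSL_mul]
    refine hne (a * a) ?_
    rw [Units.val_mul, show ((a : F) * a) ^ 2 = (a : F) ^ 4 by ring]
    exact h4
  · intro g hg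
    have hM := congrArg (fun M : SL(2, F) => (M : Matrix (Fin 2) (Fin 2) F)) hg.eq
    simp only [Matrix.SpecialLinearGroup.coe_mul] at hM
    have ha0 := a.ne_zero
    have hne' : (a : F) - (a : F)⁻¹ ≠ 0 := by
      intro e
      apply h2
      rw [sq]
      nth_rw 2 [sub_eq_zero.1 e]
      exact mul_inv_cancel₀ ha0
    have e01 := congrFun (congrFun hM 0) 1
    have e10 := congrFun (congrFun hM 1) 0
    simp [diagSL, Matrix.mul_apply, Fin.sum_univ_two] at e01 e10
    constructor
    · have : g 0 1 * ((a : F) - (a : F)⁻¹) = 0 := by linear_combination -e01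
      exact (mul_eq_zero.1 this).resolve_right hne'
    · have : g 1 0 * ((a : F) - (a : F)⁻¹) = 0 := by linear_combination e10
      exact (mul_eq_zero.1 this).resolve_right hne'

/-- `x` of order at least three dividing `q - 1`: two Borel subgroups and a torus normaliser. -/
theorem card_sol_minus (hG : Cfsg.IsMinimalSimple G2) (hq : 4 ≤ qq) (hp : p = 2 ∨ p = 3)
    (h24 : p = 3 → ¬ 24 ∣ Nat.card G2) {x : G2} (hx1 : x ≠ 1) (hx2 : orderOf x ≠ 2)
    (hx : orderOf x ∣ qq - 1) :
    Nat.card {y : G2 // SolPair x y} = 2 * qq * ((qq - 1) / dq) := by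
  classical
  obtain ⟨n, -, hn⟩ := FiniteField.card F p
  have hq5 : qq ≠ 5 := by
    intro e
    rw [hn] at e
    rcases hp with hp | hp <;> rw [hp] at e
    · have := congrArg (· % 2) e; simp [Nat.pow_mod] at this
    · have := congrArg (· % 3) e; simp [Nat.pow_mod] at this
  obtain ⟨a, hao, ha2, ha1, hacomm⟩ := exists_diag_order (F := F) ⟨by omega, by omega, hq5⟩
  obtain ⟨hxp, hcx⟩ := dvd_minus_ss p hx1 hx2 hx
  obtain ⟨hap, hca⟩ := dvd_minus_ss p ha1 (fun e => ha2 (by
    rw [← sq]; exact orderOf_dvd_iff_pow_eq_one.1 (dvd_of_eq e))) hao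
  obtain ⟨g, hg⟩ := (tor_trichotomy p hxp).2.2 _ hap (hca.trans hcx.symm)
  -- move `x` into the diagonal torus
  rw [← card_sol_map (MulAut.conj g) x]
  set z : G2 := (MulAut.conj g) x
  have hz2 : z * z ≠ 1 := by
    intro e
    refine ss_facts p hx1 hx2 ((MulAut.conj g).injective ?_)
    rw [map_mul, map_one]; exact e
  have hzp : z ^ p ≠ 1 := by
    intro e
    refine hxp ((MulAut.conj g).injective ?_)
    rw [map_pow, map_one]; exact e
  have hz1 : z ≠ 1 := fun e => hz2 (by rw [e, one_mul])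
  have hzT : z ∈ tor (proj (diagSL a)) := by rw [hg]; exact ⟨x, self_mem_tor x, rfl⟩
  have htz : tor z = tor (proj (diagSL a)) := tor_eq_of_mem ha1 hzT hz1
  obtain ⟨Z, hZ⟩ := proj_surjective z
  obtain ⟨hZ01, hZ10⟩ := hacomm Z (proj_mem_tor_iff.1 (hZ.symm ▸ hzT))
  have hZd := Z.2
  rw [Matrix.det_fin_two, hZ01, hZ10, mul_zero, sub_zero] at hZd
  have hZ00 : Z 0 0 ≠ 0 := left_ne_zero_of_mul_eq_one hZd
  set b := Units.mk0 (Z 0 0) hZ00
  have hZb : Z = diagSL b := by
    apply Subtype.ext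
    ext i j
    fin_cases i <;> fin_cases j <;> simp [diagSL, b, hZ01, hZ10]
    exact (inv_eq_of_mul_eq_one_right hZd).symm
  have hb2 : (b : F) - (b : F)⁻¹ ≠ 0 := by
    intro e
    apply hz1
    rw [← hZ, hZb, proj_eq_one_iff, mem_center_iff_isScalar2]
    refine ⟨rfl, rfl, ?_⟩
    show (b : F) = ((b⁻¹ : Fˣ) : F)
    rw [Units.val_inv_eq_inv_val]
    exact sub_eq_zero.1 e
  set B := (borelP : Subgroup G2)
  set L := (borelP : Subgroup G2).comap (cjP swapGL).toMonoidHom
  set N := Subgroup.normalizer (tor z : Set G2)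
  have hT : ∀ y : G2, y ∈ tor z ↔ y ∈ B ∧ y ∈ L := by
    intro y
    obtain ⟨Y, rfl⟩ := proj_surjective y
    rw [htz, proj_mem_tor_iff, Subgroup.mem_comap]
    show _ ↔ _ ∧ cjP swapGL (proj Y) ∈ borelP
    rw [swap_mem_borelP, proj_mem_borelP]
    constructor
    · exact fun h => ⟨(hacomm Y h).2, (hacomm Y h).1⟩
    · rintro ⟨h10, h01⟩
      apply Subtype.ext
      rw [Matrix.SpecialLinearGroup.coe_mul, Matrix.SpecialLinearGroup.coe_mul]
      ext i j
      fin_cases i <;> fin_cases j <;>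
        simp [diagSL, Matrix.mul_apply, Fin.sum_univ_two, h01, h10, mul_comm]
  have hzB : z ∈ B ∧ z ∈ L := (hT z).1 (self_mem_tor z)
  have hNB : ∀ y ∈ N, (y ∈ B ∨ y ∈ L) → y ∈ tor z := by
    intro y hy hyBL
    by_contra hyT
    obtain ⟨-, -, hinv⟩ := normalizer_outside p hzp hy hyT
    have hcop := orderOf_coprime_char p hzp
    have hd : orderOf z ∣ 2 := by
      rcases hyBL with h | h
      · exact borel_no_inverting p (P := 1) (by
          obtain ⟨hB, -⟩ := hzB
          rw [← hZ, cjP_proj]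
          rw [← hZ] at hB
          convert hB using 2
          apply Subtype.ext
          simp [cjSL] <;> rfl) (by
          obtain ⟨Y, rfl⟩ := proj_surjective y
          rw [cjP_proj]
          convert h using 2
          apply Subtype.ext
          simp [cjSL] <;> rfl) hcop (hinv z (self_mem_tor z))
      · exact borel_no_inverting p (P := swapGL) hzB.2 h hcop (hinv z (self_mem_tor z))
    exact hz2 (by rw [← sq]; exact orderOf_dvd_iff_pow_eq_one.1 hd)
  have hsol : ∀ y, SolPair z y ↔ y ∈ B ∨ y ∈ L ∨ y ∈ N := by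
    intro y
    constructor
    · intro h
      rcases solPair_ss_cases p hG hq hp h24 hzp hz2 h with hN | ⟨P, hPz, hPy⟩
      · exact Or.inr (Or.inr hN)
      · obtain ⟨Y, rfl⟩ := proj_surjective y
        rw [← hZ] at hPz
        have h2 := tr_comm_of_borel hPz hPy
        rw [hZb, tr_comm_diag, sub_eq_self, mul_eq_zero] at h2
        rcases mul_eq_zero.1 (h2.resolve_left (pow_ne_zero 2 hb2)) with h01 | h10
        · exact Or.inr (Or.inl (swap_mem_borelP.2 h01))
        · exact Or.inl (proj_mem_borelP.2 h10)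
    · rintro (h | h | h)
      · exact solPair_of_normalizer hG (tor_transl_proper p hq).1 (tor_transl_proper p hq).2
          (borelP_normalizes_transl p hzB.1) (borelP_normalizes_transl p h)
      · exact solPair_borel p hG hq hzB.2 h
      · exact solPair_normalizer p hG hq hzp h
  haveI : Fintype G2 := Fintype.ofFinite _
  have hcL : Nat.card L = Nat.card B :=
    Nat.card_congr (Equiv.subtypeEquiv (cjP swapGL).toEquiv fun y => Iff.rfl)
  have hcT : Nat.card (tor z) = (qq - 1) / dq := by rw [htz, hca]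
  have hcN : Nat.card N = 2 * Nat.card (tor z) := (tor_trichotomy p hzp).2.1
  have hset : (Finset.univ.filter fun y : G2 => SolPair z y) =
      ((B : Set G2).toFinset ∪ (L : Set G2).toFinset) ∪ (N : Set G2).toFinset := by
    ext y
    simp only [Finset.mem_filter, Finset.mem_univ, true_and, Finset.mem_union, Set.mem_toFinset,
      SetLike.mem_coe, hsol, or_assoc]
  have hi1 : ((B : Set G2).toFinset ∩ (L : Set G2).toFinset) = (tor z : Set G2).toFinset := by
    ext y
    simp [hT]
  have hi2 : (((B : Set G2).toFinset ∪ (L : Set G2).toFinset) ∩ (N : Set G2).toFinset) =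
      (tor z : Set G2).toFinset := by
    ext y
    simp only [Finset.mem_inter, Finset.mem_union, Set.mem_toFinset, SetLike.mem_coe]
    exact ⟨fun ⟨h1, h2⟩ => hNB y h2 h1, fun h => ⟨Or.inl ((hT y).1 h).1, Subgroup.le_normalizer h⟩⟩
  have h1 := Finset.card_union_add_card_inter (B : Set G2).toFinset (L : Set G2).toFinset
  have h2 := Finset.card_union_add_card_inter ((B : Set G2).toFinset ∪ (L : Set G2).toFinset)
    (N : Set G2).toFinset
  rw [hi1] at h1
  rw [hi2] at h2
  rw [Nat.card_eq_fintype_card, Fintype.card_subtype, hset]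
  simp only [← Nat.card_eq_card_toFinset, SetLike.coe_sort_coe] at h1 h2
  rw [hcT] at h1 h2 hcN
  rw [hcL, card_borelP] at h1
  rw [hcN] at h2
  have hle : (qq - 1) / dq ≤ qq * ((qq - 1) / dq) := Nat.le_mul_of_pos_left _ (by omega)
  rw [mul_assoc]
  omega

end H39
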